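import Groth.Prelude.Def_W4c1zetahwZeta
import Groth.Prelude.Def_SgaExt
import Groth.Agent.Lib.AffDom.PointDim
import Mathlib.FieldTheory.Finite.GaloisField
import Mathlib.FieldTheory.Finite.Extension
import Mathlib.AlgebraicGeometry.Morphisms.Finite
import Mathlib.Algebra.Field.ULift

/-!
Closed points and rational points of schemes of finite type over a field.
-/

set_option linter.style.haveILetI false

universe u

open CategoryTheory Limits AlgebraicGeometry

namespace GrothLib.Zeta

open GrothLib.AffDom

variable {k : Type u} [Field k] {X : Scheme.{u}} (f : X ⟶ Spec (CommRingCat.of k))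

theorem toRes_id_bijective (y : ↥(Spec (CommRingCat.of k))) :
    Function.Bijective (toRes (𝟙 (Spec (CommRingCat.of k))) y) := by
  refine ⟨RingHom.injective _, ?_⟩
  have hc : IsClosed ({y} : Set ↥(Spec (CommRingCat.of k))) := by
    have : Subsingleton ↥(Spec (CommRingCat.of k)) :=
      inferInstanceAs (Subsingleton (PrimeSpectrum k))
    exact isClosed_discrete _
  have := isClosed_singleton_iff_isClosedImmersion.mp hc
  have h : IsClosedImmersion (Spec.map (CommRingCat.ofHom (toRes (𝟙 (Spec (CommRingCat.of k))) y))) := by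
    rw [SpecMap_toRes, Category.comp_id]; infer_instance
  intro b
  obtain ⟨a, ha⟩ := (IsClosedImmersion.isAffine_surjective_of_isAffine
    (Spec.map (CommRingCat.ofHom (toRes (𝟙 (Spec (CommRingCat.of k))) y)))).2
    ((Scheme.ΓSpecIso _).inv b)
  refine ⟨(Scheme.ΓSpecIso _).hom a, ?_⟩
  have hn := ConcreteCategory.congr_hom (Scheme.ΓSpecIso_naturality
    (CommRingCat.ofHom (toRes (𝟙 (Spec (CommRingCat.of k))) y))) a
  simp only [CommRingCat.comp_apply] at hn
  rw [ha] at hn
  simpa using hn.symm

theorem residueDegree_eq_finrank (x : X) :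
    letI := (toRes f x).toAlgebra
    EGA4loc.residueDegree f x = Module.finrank k (X.residueField x) := by
  letI := (toRes f x).toAlgebra
  unfold EGA4loc.residueDegree
  letI := (f.residueFieldMap x).hom.toAlgebra
  refine (Algebra.finrank_eq_of_equiv_equiv (RingEquiv.ofBijective _ (toRes_id_bijective (f x)))
    (RingEquiv.refl _) ?_).symm
  ext a
  have h := toRes_comp f (𝟙 (Spec (CommRingCat.of k))) x
  rw [Category.comp_id] at h
  exact (DFunLike.congr_fun h a).symm

theorem isClosed_iff_finite [LocallyOfFiniteType f] (x : X) :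
    IsClosed ({x} : Set X) ↔ letI := (toRes f x).toAlgebra; Module.Finite k (X.residueField x) := by
  letI := (toRes f x).toAlgebra
  have hjac : JacobsonSpace X := LocallyOfFiniteType.jacobsonSpace f
  have hS : Spec.map (CommRingCat.ofHom (algebraMap k (X.residueField x))) =
      X.fromSpecResidueField x ≫ f := SpecMap_toRes f x
  constructor
  · intro hx
    have := isClosed_singleton_iff_isClosedImmersion.mp hx
    have h := (isFinite_iff_locallyOfFiniteType_of_jacobsonSpace
      (f := X.fromSpecResidueField x ≫ f)).mpr inferInstance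
    rw [← hS, IsFinite.SpecMap_iff] at h
    exact RingHom.finite_algebraMap.mp h
  · intro hx
    have h : IsFinite (Spec.map (CommRingCat.ofHom (algebraMap k (X.residueField x)))) :=
      (IsFinite.SpecMap_iff _).mpr (RingHom.finite_algebraMap.mpr hx)
    rw [hS] at h
    have : LocallyOfFiniteType (X.fromSpecResidueField x) :=
      locallyOfFiniteType_of_comp _ f
    exact isClosed_singleton_iff_locallyOfFiniteType.mpr this

theorem residueDegree_pos_iff [LocallyOfFiniteType f] (x : X) :
    0 < EGA4loc.residueDegree f x ↔ IsClosed ({x} : Set X) := by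
  letI := (toRes f x).toAlgebra
  rw [residueDegree_eq_finrank f x, isClosed_iff_finite f x]
  exact ⟨Module.finite_of_finrank_pos, fun h => Module.finrank_pos⟩

theorem isClosed_iff_finite_residueField [Finite k] [LocallyOfFiniteType f] (x : X) :
    IsClosed ({x} : Set X) ↔ Finite (X.residueField x) := by
  letI := (toRes f x).toAlgebra
  rw [isClosed_iff_finite f x]
  exact ⟨fun h => Module.finite_of_finite k, fun h => Module.Finite.of_finite⟩

theorem natCard_residueField [Finite k] [LocallyOfFiniteType f] {x : X} (hx : IsClosed ({x} : Set X)) :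
    Nat.card (X.residueField x) = Nat.card k ^ EGA4loc.residueDegree f x := by
  letI := (toRes f x).toAlgebra
  have := (isClosed_iff_finite f x).mp hx
  rw [residueDegree_eq_finrank f x, Module.natCard_eq_pow_finrank (K := k)]

/-- The `k'`-points of a `k`-scheme. -/
abbrev Pts (k' : Type u) [Field k'] [Algebra k k'] : Type u :=
  { g : Spec (CommRingCat.of k') ⟶ X //
    g ≫ f = Spec.map (CommRingCat.ofHom (algebraMap k k')) }

/-- The algebra morphisms of a residue field into an extension field. -/
def PtsAt (k' : Type u) [Field k'] [Algebra k k'] (x : X) : Type u :=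
  letI := (toRes f x).toAlgebra
  X.residueField x →ₐ[k] k'

/-- Points with values in a field are residue field embeddings. -/
noncomputable def ptsEquiv (k' : Type u) [Field k'] [Algebra k k'] :
    Pts f k' ≃ Σ x : X, PtsAt f k' x :=
  ((Scheme.SpecToEquivOfField k' X).subtypeEquiv
    (p := fun g => g ≫ f = Spec.map (CommRingCat.ofHom (algebraMap k k')))
    (q := fun s => s.2.hom.comp (toRes f s.1) = algebraMap k k') (fun g => by
      obtain ⟨⟨x, φ⟩, rfl⟩ := (Scheme.SpecToEquivOfField k' X).symm.surjective g
      rw [Equiv.apply_symm_apply,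
        show (Scheme.SpecToEquivOfField k' X).symm ⟨x, φ⟩ = Spec.map φ ≫ X.fromSpecResidueField x
          from rfl, Category.assoc, ← SpecMap_toRes f x, ← Spec.map_comp, Spec.map_inj]
      exact ⟨fun h => congrArg CommRingCat.Hom.hom h, fun h => CommRingCat.hom_ext h⟩)).trans <|
  { toFun := fun s =>
      letI := (toRes f s.1.1).toAlgebra
      ⟨s.1.1, ({ toRingHom := s.1.2.hom, commutes' := fun c => DFunLike.congr_fun s.2 c } :
        X.residueField s.1.1 →ₐ[k] k')⟩
    invFun := fun s =>
      letI := (toRes f s.1).toAlgebra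
      ⟨⟨s.1, CommRingCat.ofHom (s.2 : X.residueField s.1 →ₐ[k] k').toRingHom⟩,
        (s.2 : X.residueField s.1 →ₐ[k] k').comp_algebraMap⟩
    left_inv := fun _ => rfl
    right_inv := fun _ => rfl }

theorem finite_pts [LocallyOfFiniteType f] [QuasiCompact f] (k' : Type u) [Field k'] [Algebra k k']
    [Finite k'] : Finite (Pts f k') := by
  have : CompactSpace X := QuasiCompact.compactSpace_of_compactSpace f
  let 𝒰 := X.affineCover.finiteSubcover
  let P : 𝒰.I₀ → Type u := fun i => { g : Spec (CommRingCat.of k') ⟶ 𝒰.X i //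
    g ≫ 𝒰.f i ≫ f = Spec.map (CommRingCat.ofHom (algebraMap k k')) }
  have hP : ∀ i, Finite (P i) := by
    intro i
    have : IsAffine (𝒰.X i) := isAffine_Spec _
    let e := (𝒰.X i).isoSpec
    let ψ := Spec.preimage (e.inv ≫ 𝒰.f i ≫ f)
    have hψ : Spec.map ψ = e.inv ≫ 𝒰.f i ≫ f := Spec.map_preimage _
    have hft : ψ.hom.FiniteType := by
      rw [← HasRingHomProperty.Spec_iff (P := @LocallyOfFiniteType), hψ]; infer_instance
    algebraize [ψ.hom]
    have : Algebra.FiniteType k Γ(𝒰.X i, ⊤) := hft
    obtain ⟨n, π, hπ⟩ := Algebra.FiniteType.iff_quotient_mvPolynomial''.mp this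
    have : Finite (Γ(𝒰.X i, ⊤) →ₐ[k] k') :=
      Finite.of_injective (fun φ (j : Fin n) => φ (π (MvPolynomial.X j))) fun φ φ' h =>
        AlgHom.ext fun a => by
          obtain ⟨p, rfl⟩ := hπ a
          exact DFunLike.congr_fun (MvPolynomial.algHom_ext (f := φ.comp π) (g := φ'.comp π)
            fun j => congrFun h j) p
    refine Finite.of_injective (fun g : P i =>
      ({ (Spec.preimage (g.1 ≫ e.hom)).hom with
        commutes' := fun c => ?_ } : Γ(𝒰.X i, ⊤) →ₐ[k] k')) ?_
    · have h : ψ ≫ Spec.preimage (g.1 ≫ e.hom) = CommRingCat.ofHom (algebraMap k k') := by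
        apply Spec.map_injective
        rw [Spec.map_comp, Spec.map_preimage, hψ, Category.assoc, Iso.hom_inv_id_assoc, g.2]
      exact DFunLike.congr_fun (congrArg CommRingCat.Hom.hom h) c
    · intro g g' h
      have h' : Spec.preimage (g.1 ≫ e.hom) = Spec.preimage (g'.1 ≫ e.hom) :=
        CommRingCat.hom_ext (congrArg AlgHom.toRingHom h)
      have h'' := congrArg Spec.map h'
      rw [Spec.map_preimage, Spec.map_preimage, cancel_mono] at h''
      exact Subtype.ext h''
  refine Finite.of_surjective (fun s : Σ i, P i => (⟨s.2.1 ≫ 𝒰.f s.1, by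
    rw [Category.assoc]; exact s.2.2⟩ : Pts f k')) ?_
  rintro ⟨g, hg⟩
  obtain ⟨i, y, hy⟩ := 𝒰.exists_eq (g default)
  have hr : Set.range g ⊆ Set.range (𝒰.f i) := by
    rintro _ ⟨z, rfl⟩
    rw [Subsingleton.elim z default]
    exact ⟨y, hy⟩
  exact ⟨⟨i, IsOpenImmersion.lift (𝒰.f i) g hr, by
      rw [← Category.assoc, IsOpenImmersion.lift_fac, hg]⟩, Subtype.ext (IsOpenImmersion.lift_fac _ _ hr)⟩

section FiniteField

variable [Finite k] [LocallyOfFiniteType f] (k' : Type u) [Field k'] [Algebra k k'] [Finite k']

theorem nonempty_ptsAt_iff (x : X) :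
    Nonempty (PtsAt f k' x) ↔
      IsClosed ({x} : Set X) ∧ EGA4loc.residueDegree f x ∣ Module.finrank k k' := by
  letI := (toRes f x).toAlgebra
  constructor
  · rintro ⟨φ⟩
    let φ' : X.residueField x →ₐ[k] k' := φ
    have : Finite (X.residueField x) :=
      Finite.of_injective φ'.toRingHom (RingHom.injective φ'.toRingHom)
    refine ⟨(isClosed_iff_finite_residueField f x).mpr this, ?_⟩
    rw [residueDegree_eq_finrank f x, ← FiniteField.nonempty_algHom_iff_finrank_dvd]
    exact ⟨φ⟩
  · rintro ⟨hx, hd⟩
    have := (isClosed_iff_finite_residueField f x).mp hx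
    rw [residueDegree_eq_finrank f x, ← FiniteField.nonempty_algHom_iff_finrank_dvd] at hd
    exact hd

theorem natCard_ptsAt {x : X} (hx : IsClosed ({x} : Set X))
    (hd : EGA4loc.residueDegree f x ∣ Module.finrank k k') :
    Nat.card (PtsAt f k' x) = EGA4loc.residueDegree f x := by
  letI := (toRes f x).toAlgebra
  have := (isClosed_iff_finite_residueField f x).mp hx
  rw [residueDegree_eq_finrank f x] at hd ⊢
  exact FiniteField.natCard_algHom_of_finrank_dvd hd

variable [QuasiCompact f]

/-- The closed points whose degree divides that of `k'`. -/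
abbrev DvdPts : Type u :=
  { x : X // IsClosed ({x} : Set X) ∧ EGA4loc.residueDegree f x ∣ Module.finrank k k' }

theorem finite_dvdPts : Finite (DvdPts f k') := by
  have := finite_pts f k'
  choose φ hφ using fun s : DvdPts f k' => (⟨((nonempty_ptsAt_iff f k' s.1).mpr s.2).some, trivial⟩ :
    ∃ φ : PtsAt f k' s.1, True)
  refine Finite.of_injective (fun s => (ptsEquiv f k').symm ⟨s.1, φ s⟩) fun s t h => ?_
  exact Subtype.ext (congrArg Sigma.fst ((ptsEquiv f k').symm.injective h))

theorem pointCount_eq_sum [Fintype (DvdPts f k')] :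
    SgaExt.pointCount f k' = ∑ s : DvdPts f k', EGA4loc.residueDegree f s.1 := by
  have := finite_pts f k'
  have e1 : SgaExt.pointCount f k' = Nat.card (Σ s : DvdPts f k', PtsAt f k' s.1) := by
    refine Nat.card_congr ((ptsEquiv f k').trans ?_)
    exact
    { toFun := fun s => ⟨⟨s.1, (nonempty_ptsAt_iff f k' s.1).mp ⟨s.2⟩⟩, s.2⟩
      invFun := fun s => ⟨s.1.1, s.2⟩
      left_inv := fun s => rfl
      right_inv := fun s => rfl }
  have : ∀ s : DvdPts f k', Finite (PtsAt f k' s.1) := fun s =>
    Nat.finite_of_card_ne_zero (by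
      rw [natCard_ptsAt f k' s.2.1 s.2.2]
      exact ((residueDegree_pos_iff f s.1).mpr s.2.1).ne')
  rw [e1, Nat.card_sigma]
  exact Finset.sum_congr rfl fun s _ => natCard_ptsAt f k' s.2.1 s.2.2

theorem pointCount_eq_nPts : SgaExt.pointCount f k' = _root_.Zeta.nPts f (Module.finrank k k') := by
  classical
  have := finite_dvdPts f k'
  letI := Fintype.ofFinite (DvdPts f k')
  have hr : Module.finrank k k' ≠ 0 := by
    have : Module.Finite k k' := Module.Finite.of_finite
    exact Module.finrank_pos.ne'
  rw [pointCount_eq_sum f k', _root_.Zeta.nPts,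
    ← Finset.sum_fiberwise_of_maps_to (g := fun s : DvdPts f k' => EGA4loc.residueDegree f s.1)
      (t := (Module.finrank k k').divisors)
      (fun s _ => Nat.mem_divisors.mpr ⟨s.2.2, hr⟩)]
  refine Finset.sum_congr rfl fun e he => ?_
  rw [Finset.sum_congr rfl (fun s hs => (Finset.mem_filter.mp hs).2), Finset.sum_const, smul_eq_mul,
    mul_comm, ← Nat.card_eq_finsetCard, _root_.Zeta.degCount]
  congr 1
  exact Nat.card_congr
    { toFun := fun s => ⟨s.1.1, s.1.2.1, (Finset.mem_filter.mp s.2).2⟩
      invFun := fun s => ⟨⟨s.1, s.2.1, by rw [s.2.2]; exact (Nat.mem_divisors.mp he).1⟩,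
        Finset.mem_filter.mpr ⟨Finset.mem_univ _, s.2.2⟩⟩
      left_inv := fun s => rfl
      right_inv := fun s => rfl }

end FiniteField

/-- Finite fields have extensions of every degree. -/
theorem exists_extension (k : Type u) [Field k] [Finite k] (n : ℕ) (hn : 0 < n) :
    ∃ (k' : Type u) (_ : Field k') (_ : Algebra k k'), Finite k' ∧ Module.finrank k k' = n := by
  obtain ⟨p, hp⟩ := CharP.exists k
  have : Fact p.Prime := ⟨(CharP.char_is_prime_or_zero k p).resolve_right
    (CharP.char_ne_zero_of_finite k p)⟩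
  have : NeZero n := ⟨hn.ne'⟩
  let e : ULift.{u} (FiniteField.Extension k p n) ≃ₐ[k] FiniteField.Extension k p n :=
    ULift.algEquiv
  exact ⟨ULift.{u} (FiniteField.Extension k p n), inferInstance, inferInstance, inferInstance,
    e.toLinearEquiv.finrank_eq.trans (FiniteField.finrank_extension k p n)⟩

theorem finite_degPts [Finite k] [LocallyOfFiniteType f] [QuasiCompact f] (e : ℕ) :
    Finite { x : X // IsClosed ({x} : Set X) ∧ EGA4loc.residueDegree f x = e } := by
  rcases e.eq_zero_or_pos with rfl | he
  · have : IsEmpty { x : X // IsClosed ({x} : Set X) ∧ EGA4loc.residueDegree f x = 0 } :=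
      ⟨fun x => ((residueDegree_pos_iff f x.1).mpr x.2.1).ne' x.2.2⟩
    infer_instance
  · obtain ⟨k', _, _, _, hk'⟩ := exists_extension k e he
    have := finite_dvdPts f k'
    exact Finite.of_injective (fun x => (⟨x.1, x.2.1, by rw [x.2.2, hk']⟩ : DvdPts f k'))
      fun x y h => Subtype.ext (congrArg (fun s => s.1) h)

end GrothLib.Zeta
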