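import Groth.Agent.Lib.Zeta.Counting
import Mathlib.AlgebraicGeometry.Stalk
import Mathlib.FieldTheory.Finite.Basic
import Mathlib.FieldTheory.IsAlgClosed.Basic

/-!
Absolute Frobenius morphisms and points over an algebraically closed field fixed by them.
-/

set_option linter.style.haveILetI false

universe u

open CategoryTheory Limits AlgebraicGeometry

namespace GrothLib.Zeta

variable {k₀ : Type u} [Field k₀] [Finite k₀]

/-- Iterated Frobenius of a `k₀`-algebra. -/
noncomputable def fr (k₀ : Type u) [Field k₀] [Finite k₀] (R : Type u) [CommRing R] [Algebra k₀ R]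
    (m : ℕ) : R →+* R :=
  letI := Fintype.ofFinite k₀
  ((FiniteField.frobeniusAlgHom k₀ R) ^ m).toRingHom

theorem fr_apply (R : Type u) [CommRing R] [Algebra k₀ R] (m : ℕ) (a : R) :
    fr k₀ R m a = a ^ (Nat.card k₀ ^ m) := by
  letI := Fintype.ofFinite k₀
  show ((FiniteField.frobeniusAlgHom k₀ R) ^ m) a = _
  induction m generalizing a with
  | zero => simp
  | succ m ih =>
    rw [pow_succ', AlgHom.mul_apply, ih, FiniteField.coe_frobeniusAlgHom]
    show (a ^ _) ^ _ = _
    rw [← pow_mul, Nat.card_eq_fintype_card, pow_succ]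

/-- Iterates of an endomorphism. -/
noncomputable def iterHom {C : Type*} [Category* C] {X : C} (F : X ⟶ X) : ℕ → (X ⟶ X)
  | 0 => 𝟙 X
  | m + 1 => iterHom F m ≫ F

theorem iterHom_comp {C : Type*} [Category* C] {X Y : C} {F : X ⟶ X} {G : Y ⟶ Y} {π : X ⟶ Y}
    (h : F ≫ π = π ≫ G) : ∀ m, iterHom F m ≫ π = π ≫ iterHom G m
  | 0 => by simp [iterHom]
  | m + 1 => by
    rw [iterHom, iterHom, Category.assoc, h, ← Category.assoc, iterHom_comp h m, Category.assoc]

variable {X : Scheme.{u}} (FX : X ⟶ X) (hle : ∀ U : X.Opens, U ≤ FX ⁻¹ᵁ U)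
  (hFapp : ∀ (U : X.Opens) (s : Γ(X, U)), (FX.appLE U U (hle U)).hom s = s ^ Nat.card k₀)

include hFapp in
theorem comp_absFrobenius {R : Type u} [CommRing R] [IsLocalRing R] [Algebra k₀ R]
    (t : Spec (CommRingCat.of R) ⟶ X) :
    t ≫ FX = Spec.map (CommRingCat.ofHom (fr k₀ R 1)) ≫ t := by
  obtain ⟨_, ⟨U, hU, rfl⟩, hxU, -⟩ :=
    X.isBasis_affineOpens.exists_subset_of_mem_open
      (Set.mem_univ (t (IsLocalRing.closedPoint R))) isOpen_univ
  have hU : IsAffineOpen U := hU
  have hr : Set.range t ⊆ Set.range hU.fromSpec := by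
    rintro _ ⟨z, rfl⟩
    rw [hU.range_fromSpec]
    exact ((IsLocalRing.specializes_closedPoint z).map t.continuous).mem_open U.2 hxU
  have : IsOpenImmersion hU.fromSpec := hU.isOpenImmersion_fromSpec
  obtain ⟨φ, hφ⟩ : ∃ φ, Spec.map φ = IsOpenImmersion.lift _ t hr := ⟨_, Spec.map_preimage _⟩
  have ht : t = Spec.map φ ≫ hU.fromSpec := by rw [hφ, IsOpenImmersion.lift_fac]
  have hFX := hU.SpecMap_appLE_fromSpec FX hU (hle U)
  rw [ht, Category.assoc, ← hFX, ← Spec.map_comp_assoc, ← Spec.map_comp_assoc]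
  congr 2
  refine CommRingCat.hom_ext (RingHom.ext fun s => ?_)
  show φ.hom ((FX.appLE U U (hle U)).hom s) = fr k₀ R 1 (φ.hom s)
  rw [hFapp, map_pow, fr_apply, pow_one]

include hFapp in
theorem comp_iterFrobenius {R : Type u} [CommRing R] [IsLocalRing R] [Algebra k₀ R]
    (t : Spec (CommRingCat.of R) ⟶ X) :
    ∀ m, t ≫ iterHom FX m = Spec.map (CommRingCat.ofHom (fr k₀ R m)) ≫ t
  | 0 => by
    rw [iterHom, Category.comp_id,
      show fr k₀ R 0 = RingHom.id R from RingHom.ext fun a => by rw [fr_apply, pow_zero, pow_one]; rfl,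
      CommRingCat.ofHom_id, Spec.map_id, Category.id_comp]
  | m + 1 => by
    rw [iterHom, ← Category.assoc, comp_iterFrobenius t m, Category.assoc,
      comp_absFrobenius FX hle hFapp t, ← Spec.map_comp_assoc, ← CommRingCat.ofHom_comp]
    congr 3

include hFapp in
theorem comp_iterFrobenius_field {L : Type u} [Field L] [Algebra k₀ L]
    (t : Spec (CommRingCat.of L) ⟶ X) (m : ℕ) :
    t ≫ iterHom FX m = Spec.map (CommRingCat.ofHom (fr k₀ L m)) ≫ t :=
  comp_iterFrobenius FX hle hFapp t m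

variable (f : X ⟶ Spec (CommRingCat.of k₀)) [LocallyOfFiniteType f] [QuasiCompact f]
  (k : Type u) [Field k] [IsAlgClosed k] [Algebra k₀ k]

include hFapp in
/-- The points over an algebraically closed field fixed by the `m`-th power of Frobenius. -/
theorem natCard_fixed_pts (m : ℕ) (hm : 1 ≤ m) :
    Nat.card { t : Pts f k // t.1 ≫ iterHom FX m = t.1 } = _root_.Zeta.nPts f m := by
  classical
  obtain ⟨km, _, _, _, hkm⟩ := exists_extension k₀ m hm
  have : Module.Finite k₀ km := Module.Finite.of_finite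
  let ψ : km →ₐ[k₀] k := IsAlgClosed.lift
  set Q := Nat.card k₀ ^ m with hQ
  have hQc : Q = Nat.card km := by rw [hQ, ← hkm, ← Module.natCard_eq_pow_finrank]
  have hQ1 : 1 < Q := hQc ▸ Finite.one_lt_card
  have hfix : ∀ a : k, a ^ Q = a → a ∈ Set.range ψ := by
    letI := Fintype.ofFinite km
    intro a ha
    have hne : (Polynomial.X ^ Q - Polynomial.X : Polynomial k) ≠ 0 :=
      FiniteField.X_pow_card_sub_X_ne_zero k hQ1
    set S := (Polynomial.X ^ Q - Polynomial.X : Polynomial k).roots.toFinset with hS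
    have hmemS : ∀ b, b ∈ S ↔ b ^ Q = b := fun b => by
      simp [hS, Polynomial.mem_roots hne, sub_eq_zero]
    have hsub : Finset.univ.image ψ ⊆ S := fun b hb => by
      obtain ⟨c, -, rfl⟩ := Finset.mem_image.mp hb
      rw [hmemS, ← map_pow, hQc, Nat.card_eq_fintype_card, FiniteField.pow_card]
    have hcard : S.card ≤ (Finset.univ.image ψ).card := by
      rw [Finset.card_image_of_injective _ (show Function.Injective ψ from ψ.toRingHom.injective), Finset.card_univ,
        ← Nat.card_eq_fintype_card, ← hQc]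
      exact (Multiset.toFinset_card_le _).trans ((Polynomial.card_roots' _).trans
        (le_of_eq (FiniteField.X_pow_card_sub_X_natDegree_eq k hQ1)))
    obtain ⟨c, -, hc⟩ := Finset.mem_image.mp
      ((Finset.eq_of_subset_of_card_le hsub hcard).ge ((hmemS a).mpr ha))
    exact ⟨c, hc⟩
  have hfixψ : ∀ t : Pts f km, (Spec.map (CommRingCat.ofHom ψ.toRingHom) ≫ t.1) ≫ iterHom FX m =
      Spec.map (CommRingCat.ofHom ψ.toRingHom) ≫ t.1 := fun t => by
    rw [comp_iterFrobenius FX hle hFapp _ m, ← Spec.map_comp_assoc]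
    congr 2
    refine CommRingCat.hom_ext (RingHom.ext fun c => ?_)
    show fr k₀ k m (ψ c) = ψ c
    rw [fr_apply, ← map_pow, ← hQ, hQc]
    letI := Fintype.ofFinite km
    rw [Nat.card_eq_fintype_card, FiniteField.pow_card]
  rw [← hkm, ← pointCount_eq_nPts, hkm]
  have hm1 : ∀ t : Pts f km, (Spec.map (CommRingCat.ofHom ψ.toRingHom) ≫ t.1) ≫ f =
      Spec.map (CommRingCat.ofHom (algebraMap k₀ k)) := fun t => by
    rw [Category.assoc, t.2, ← Spec.map_comp]
    exact congrArg Spec.map (CommRingCat.hom_ext ψ.comp_algebraMap)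
  refine (Nat.card_eq_of_bijective (fun t : Pts f km =>
    (⟨⟨Spec.map (CommRingCat.ofHom ψ.toRingHom) ≫ t.1, hm1 t⟩, hfixψ t⟩ :
      { t : Pts f k // t.1 ≫ iterHom FX m = t.1 })) ⟨?_, ?_⟩).symm
  · intro t t' h
    have h' : Spec.map (CommRingCat.ofHom ψ.toRingHom) ≫ t.1 =
        Spec.map (CommRingCat.ofHom ψ.toRingHom) ≫ t'.1 := congrArg (fun s => s.1.1) h
    obtain ⟨⟨x, φ⟩, hx⟩ := (Scheme.SpecToEquivOfField km X).symm.surjective t.1
    obtain ⟨⟨x', φ'⟩, hx'⟩ := (Scheme.SpecToEquivOfField km X).symm.surjective t'.1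
    change Spec.map φ ≫ X.fromSpecResidueField x = t.1 at hx
    change Spec.map φ' ≫ X.fromSpecResidueField x' = t'.1 at hx'
    rw [← hx, ← hx', ← Spec.map_comp_assoc, ← Spec.map_comp_assoc] at h'
    have h'' := (Scheme.SpecToEquivOfField k X).symm.injective
      (a₁ := ⟨x, φ ≫ CommRingCat.ofHom ψ.toRingHom⟩) (a₂ := ⟨x', φ' ≫ CommRingCat.ofHom ψ.toRingHom⟩) h'
    obtain rfl : x = x' := congrArg Sigma.fst h''
    have h3 : φ = φ' := CommRingCat.hom_ext (RingHom.ext fun a => ψ.toRingHom.injective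
      (DFunLike.congr_fun (congrArg CommRingCat.Hom.hom (eq_of_heq (Sigma.mk.inj_iff.mp h'').2)) a))
    refine Subtype.ext ?_
    rw [← hx, ← hx', h3]
  · rintro ⟨⟨t, ht⟩, hfx⟩
    obtain ⟨⟨x, φ⟩, hx⟩ := (Scheme.SpecToEquivOfField k X).symm.surjective t
    change Spec.map φ ≫ X.fromSpecResidueField x = t at hx
    subst hx
    simp only at hfx
    rw [comp_iterFrobenius FX hle hFapp _ m, ← Spec.map_comp_assoc, cancel_mono, Spec.map_inj] at hfx
    have hmem : ∀ a, φ.hom a ∈ ψ.toRingHom.range := fun a => hfix _ (by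
      have := DFunLike.congr_fun (congrArg CommRingCat.Hom.hom hfx) a
      simpa [fr_apply, ← hQ] using this)
    let φ' : X.residueField x →+* km :=
      (RingEquiv.ofBijective ψ.toRingHom.rangeRestrict
        ⟨fun a b h => ψ.toRingHom.injective (congrArg Subtype.val h),
          ψ.toRingHom.rangeRestrict_surjective⟩).symm.toRingHom.comp (φ.hom.codRestrict _ hmem)
    have hφ' : CommRingCat.ofHom φ' ≫ CommRingCat.ofHom ψ.toRingHom = φ := by
      refine CommRingCat.hom_ext (RingHom.ext fun a => ?_)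
      exact congrArg Subtype.val (RingEquiv.apply_symm_apply (RingEquiv.ofBijective ψ.toRingHom.rangeRestrict
        ⟨fun a b h => ψ.toRingHom.injective (congrArg Subtype.val h),
          ψ.toRingHom.rangeRestrict_surjective⟩) (φ.hom.codRestrict _ hmem a))
    refine ⟨⟨Spec.map (CommRingCat.ofHom φ') ≫ X.fromSpecResidueField x, ?_⟩, ?_⟩
    · rw [Category.assoc, ← GrothLib.AffDom.SpecMap_toRes f x, ← Spec.map_comp]
      refine congrArg Spec.map (CommRingCat.hom_ext (RingHom.ext fun c => ψ.toRingHom.injective ?_))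
      rw [Category.assoc, ← GrothLib.AffDom.SpecMap_toRes f x, ← Spec.map_comp, Spec.map_inj] at ht
      refine Eq.trans ?_ (ψ.commutes c).symm
      refine (DFunLike.congr_fun (congrArg CommRingCat.Hom.hom hφ') _).trans ?_
      exact DFunLike.congr_fun (congrArg CommRingCat.Hom.hom ht) c
    · refine Subtype.ext (Subtype.ext ?_)
      show Spec.map (CommRingCat.ofHom ψ.toRingHom) ≫ Spec.map (CommRingCat.ofHom φ') ≫ _ = _
      rw [← Spec.map_comp_assoc, hφ']

end GrothLib.Zeta
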