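import Groth.Prelude.Def_W4c1zetahwZeta
import Mathlib.RingTheory.PowerSeries.Derivative
import Mathlib.RingTheory.PowerSeries.Exp
import Mathlib.RingTheory.PowerSeries.Trunc
import Mathlib.RingTheory.PowerSeries.Inverse

/-!
Power series determined by their logarithmic derivative.
-/

universe u

open PowerSeries

namespace GrothLib.Zeta

variable {R : Type*} [CommRing R]

/-- `F` is the exponential of `∑ N m / m * X ^ m`. -/
structure IsExpOf (N : ℕ → R) (F : R⟦X⟧) : Prop where
  intro ::
  const : constantCoeff F = 1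
  deriv : X * d⁄dX R F = F * mk N

theorem IsExpOf.coeff_mul_self {N : ℕ → R} {F : R⟦X⟧} (h : IsExpOf N F) (n : ℕ) :
    (n : R) * coeff n F = coeff n (F * mk N) := by
  rw [← h.deriv]
  rcases n with _ | n
  · simp
  · rw [coeff_succ_X_mul, coeff_derivative, mul_comm]
    push_cast
    rfl

/-- The series is determined, up to order `n`, by the exponents up to order `n`. -/
theorem IsExpOf.coeff_eq [IsAddTorsionFree R] {N M : ℕ → R} {F G : R⟦X⟧} (hF : IsExpOf N F)
    (hG : IsExpOf M G) (h0N : N 0 = 0) (h0M : M 0 = 0) (n : ℕ)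
    (hNM : ∀ m, 1 ≤ m → m ≤ n → N m = M m) : coeff n F = coeff n G := by
  induction n using Nat.strong_induction_on with
  | _ n ih =>
    rcases n.eq_zero_or_pos with rfl | hn
    · simp [hF.const, hG.const]
    · have h : (n : R) * coeff n F = (n : R) * coeff n G := by
        rw [hF.coeff_mul_self, hG.coeff_mul_self, coeff_mul, coeff_mul]
        refine Finset.sum_congr rfl fun p hp => ?_
        rw [Finset.mem_antidiagonal] at hp
        rcases Nat.eq_zero_or_pos p.2 with h2 | h2
        · simp [h2, h0N, h0M]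
        · simp only [coeff_mk]
          rw [hNM p.2 h2 (by omega), ih p.1 (by omega) fun m h1 h' => hNM m h1 (by omega)]
      rw [← nsmul_eq_mul, ← nsmul_eq_mul] at h
      exact nsmul_right_injective hn.ne' h

theorem IsExpOf.ext [IsAddTorsionFree R] {N M : ℕ → R} {F G : R⟦X⟧} (hF : IsExpOf N F)
    (hG : IsExpOf M G) (h0N : N 0 = 0) (h0M : M 0 = 0) (hNM : ∀ m, 1 ≤ m → N m = M m) : F = G :=
  PowerSeries.ext fun n => hF.coeff_eq hG h0N h0M n fun m h1 _ => hNM m h1

theorem IsExpOf.congr {N M : ℕ → R} {F : R⟦X⟧} (hF : IsExpOf N F) (h : ∀ m, N m = M m) :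
    IsExpOf M F :=
  (funext h : N = M) ▸ hF

theorem isExpOf_one : IsExpOf (0 : ℕ → R) (1 : R⟦X⟧) := by
  refine ⟨map_one _, ?_⟩
  have : mk (0 : ℕ → R) = 0 := by ext n; simp
  rw [derivative_one, mul_zero, this, mul_zero]

theorem IsExpOf.mul {N M : ℕ → R} {F G : R⟦X⟧} (hF : IsExpOf N F) (hG : IsExpOf M G) :
    IsExpOf (N + M) (F * G) := by
  refine ⟨by rw [map_mul, hF.const, hG.const, one_mul], ?_⟩
  have : mk (N + M) = mk N + mk M := by ext n; simp
  rw [this, Derivation.leibniz, smul_eq_mul, smul_eq_mul]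
  linear_combination F * hG.deriv + G * hF.deriv

theorem IsExpOf.pow {N : ℕ → R} {F : R⟦X⟧} (hF : IsExpOf N F) (a : ℕ) :
    IsExpOf (fun m => (a : R) * N m) (F ^ a) := by
  induction a with
  | zero =>
    rw [pow_zero]
    exact isExpOf_one.congr fun m => by simp
  | succ a ih =>
    rw [pow_succ]
    exact (ih.mul hF).congr fun m => by simp [add_mul]

theorem IsExpOf.prod {ι : Type*} (s : Finset ι) {N : ι → ℕ → R} {F : ι → R⟦X⟧}
    (h : ∀ i ∈ s, IsExpOf (N i) (F i)) : IsExpOf (fun m => ∑ i ∈ s, N i m) (∏ i ∈ s, F i) := by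
  classical
  induction s using Finset.induction with
  | empty =>
    rw [Finset.prod_empty]
    exact isExpOf_one.congr fun m => by simp
  | insert i s hi ih =>
    rw [Finset.prod_insert hi]
    exact ((h i (Finset.mem_insert_self i s)).mul
      (ih fun j hj => h j (Finset.mem_insert_of_mem hj))).congr fun m => by
        simp [Finset.sum_insert hi]

theorem IsExpOf.of_mul_eq_one {N : ℕ → R} {F G : R⟦X⟧} (hF : IsExpOf N F) (h : F * G = 1) :
    IsExpOf (fun m => -N m) G := by
  constructor
  · have := congrArg constantCoeff h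
    rwa [map_mul, hF.const, one_mul, map_one] at this
  · have hm : mk (fun m => -N m) = -mk N := by ext n; simp
    have hd := congrArg (fun P => X * d⁄dX R P) h
    simp only [Derivation.leibniz, smul_eq_mul, derivative_one, mul_zero] at hd
    rw [hm]
    linear_combination G * hd - G * G * hF.deriv - (X * d⁄dX R G + G * mk N) * h

/-- The exponents of `1 - c X ^ r`. -/
def binomExp (r : ℕ) (c : R) (m : ℕ) : R :=
  if r ∣ m ∧ m ≠ 0 then -((r : R) * c ^ (m / r)) else 0

theorem isExpOf_one_sub {r : ℕ} (hr : r ≠ 0) (c : R) :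
    IsExpOf (binomExp r c) (1 - C c * X ^ r) := by
  refine ⟨by simp [hr], ?_⟩
  ext m
  rcases m with _ | m
  · simp [binomExp]
  · rw [coeff_succ_X_mul, coeff_derivative, map_sub, coeff_C_mul, coeff_X_pow, coeff_one, sub_mul, sub_mul,
      one_mul, map_sub, mul_assoc (C c), coeff_C_mul, coeff_X_pow_mul', coeff_mk]
    simp only [Nat.succ_ne_zero, if_false]
    by_cases h1 : m + 1 = r
    · subst h1
      simp [binomExp, Nat.div_self]
      ring
    · rw [if_neg h1]
      by_cases h2 : r ≤ m + 1
      · have h3 : m + 1 - r ≠ 0 := by omega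
        have h4 : r ∣ m + 1 ↔ r ∣ m + 1 - r := by
          conv_lhs => rw [← Nat.sub_add_cancel h2]
          exact Nat.dvd_add_self_right
        rw [if_pos h2, coeff_mk]
        simp only [binomExp, h4, h3, ne_eq, not_false_eq_true, and_true, Nat.succ_ne_zero]
        split_ifs with h5
        · obtain ⟨t, ht⟩ := h5
          have h6 : (m + 1) / r = t + 1 := by
            rw [show m + 1 = r * (t + 1) by rw [Nat.mul_succ]; omega,
              Nat.mul_div_cancel_left _ (Nat.pos_of_ne_zero hr)]
          rw [h6, ht, Nat.mul_div_cancel_left _ (Nat.pos_of_ne_zero hr)]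
          ring
        · simp
      · rw [if_neg h2]
        have : ¬ r ∣ m + 1 := fun hd => h2 (Nat.le_of_dvd (Nat.succ_pos m) hd)
        simp [binomExp, this]

theorem isExpOf_one_sub_X (c : R) :
    IsExpOf (fun m => if m = 0 then 0 else -c ^ m) (1 - C c * X) := by
  have h := isExpOf_one_sub (r := 1) one_ne_zero c
  rw [pow_one] at h
  exact h.congr fun m => by by_cases hm : m = 0 <;> simp [binomExp, hm]

theorem IsExpOf.map {S : Type*} [CommRing S] (φ : R →+* S) {N : ℕ → R} {F : R⟦X⟧}
    (h : IsExpOf N F) : IsExpOf (fun m => φ (N m)) (PowerSeries.map φ F) := by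
  refine ⟨by rw [← coeff_zero_eq_constantCoeff_apply, coeff_map, coeff_zero_eq_constantCoeff_apply, h.const, map_one], ?_⟩
  have h' := congrArg (PowerSeries.map φ) h.deriv
  rw [map_mul, map_mul, map_X] at h'
  convert h' using 2
  · ext n
    simp [coeff_derivative]
  · ext n
    simp

theorem IsExpOf.rescale (c : R) {N : ℕ → R} {F : R⟦X⟧} (h : IsExpOf N F) :
    IsExpOf (fun m => c ^ m * N m) (PowerSeries.rescale c F) := by
  constructor
  · rw [← coeff_zero_eq_constantCoeff_apply, coeff_rescale, pow_zero, one_mul,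
      coeff_zero_eq_constantCoeff_apply, h.const]
  have h' := congrArg (PowerSeries.rescale c) h.deriv
  rw [map_mul, map_mul, rescale_X] at h'
  convert h' using 1
  · rw [mul_comm (C c) X, mul_assoc]
    congr 1
    ext n
    simp [coeff_derivative, pow_succ]
    ring
  · congr 1
    ext n
    simp

theorem IsExpOf.subst_X_pow {r : ℕ} (hr : r ≠ 0) {N : ℕ → R} {F : R⟦X⟧} (h : IsExpOf N F) :
    IsExpOf (fun m => if r ∣ m then (r : R) * N (m / r) else 0) (subst (X ^ r) F) := by
  constructor
  · rw [← coeff_zero_eq_constantCoeff_apply, coeff_subst_X_pow hr]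
    simp [h.const]
  ext m
  have h1 : coeff m (X * d⁄dX R (subst (X ^ r) F)) = (m : R) * coeff m (subst (X ^ r) F) := by
    rcases m with _ | m
    · simp
    · rw [coeff_succ_X_mul, coeff_derivative, mul_comm]
      push_cast
      rfl
  have h2 : mk (fun m => if r ∣ m then (r : R) * N (m / r) else 0) =
      C (r : R) * subst (X ^ r) (mk N) := by
    ext j
    rw [coeff_C_mul, coeff_subst_X_pow hr, coeff_mk, coeff_mk]
    simp
  rw [h1, h2, mul_left_comm, ← subst_mul (HasSubst.X_pow hr), coeff_C_mul, coeff_subst_X_pow hr,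
    coeff_subst_X_pow hr]
  split_ifs with hd
  · obtain ⟨t, rfl⟩ := hd
    rw [Nat.mul_div_cancel_left _ (Nat.pos_of_ne_zero hr)]
    simp only [Algebra.algebraMap_self, RingHom.id_apply, ← h.coeff_mul_self]
    push_cast
    ring
  · simp

theorem IsExpOf.trunc_eq_one [IsAddTorsionFree R] {N : ℕ → R} {F : R⟦X⟧} (h : IsExpOf N F)
    (h0 : N 0 = 0) (n : ℕ) (hN : ∀ m, 1 ≤ m → m ≤ n → N m = 0) : trunc (n + 1) F = 1 := by
  ext m
  rw [coeff_trunc]
  split_ifs with hm
  · rw [h.coeff_eq isExpOf_one h0 rfl m fun j h1 h2 => hN j h1 (by omega), coeff_one,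
      Polynomial.coeff_one]
  · rw [Polynomial.coeff_one, if_neg (by omega)]

open CategoryTheory AlgebraicGeometry in
theorem isExpOf_zetaFun {k : Type u} [Field k] {X₀ : Scheme.{u}}
    (f : X₀ ⟶ Spec (CommRingCat.of k)) :
    IsExpOf (fun m => (_root_.Zeta.nPts f m : ℚ)) (_root_.Zeta.zetaFun f) := by
  have hL : constantCoeff (_root_.Zeta.logZeta f) = 0 := by
    rw [_root_.Zeta.logZeta, constantCoeff_mk]; simp
  have hs := HasSubst.of_constantCoeff_zero' hL
  constructor
  · rw [_root_.Zeta.zetaFun, ← coeff_zero_eq_constantCoeff_apply, coeff_subst' hs,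
      finsum_eq_single _ 0 fun d hd => ?_]
    · simp
    · simp [hL, hd]
  · rw [_root_.Zeta.zetaFun, derivative_subst hs, derivative_exp, mul_left_comm]
    congr 1
    ext m
    rcases m with _ | m
    · simp [_root_.Zeta.nPts]
    · rw [coeff_succ_X_mul, coeff_derivative, _root_.Zeta.logZeta, coeff_mk, coeff_mk]
      push_cast
      field_simp

theorem nPts_zero {k : Type u} [Field k] {X₀ : AlgebraicGeometry.Scheme.{u}}
    (f : Quiver.Hom X₀ (AlgebraicGeometry.Spec (CommRingCat.of k))) :
    (_root_.Zeta.nPts f 0 : ℚ) = 0 := by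
  simp [_root_.Zeta.nPts]

end GrothLib.Zeta
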