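import Groth.Agent.Lib.Zeta.Points
import Groth.Agent.Lib.Zeta.Series
import Mathlib.AlgebraicGeometry.Morphisms.Immersion

/-!
Decompositions, base change and zeta functions.
-/

set_option linter.style.haveILetI false

universe u

open CategoryTheory Limits AlgebraicGeometry

namespace GrothLib.Zeta

open GrothLib.AffDom

variable {k : Type u} [Field k] {X Y : Scheme.{u}} (f : X ⟶ Spec (CommRingCat.of k))

theorem residueDegree_preimmersion (g : Y ⟶ X) [IsPreimmersion g] (y : Y) :
    EGA4loc.residueDegree (g ≫ f) y = EGA4loc.residueDegree f (g y) := by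
  rw [residueDegree_eq_finrank, residueDegree_eq_finrank]
  letI := (toRes f (g y)).toAlgebra
  letI := (toRes (g ≫ f) y).toAlgebra
  refine (Algebra.finrank_eq_of_equiv_equiv (RingEquiv.refl k)
    (RingEquiv.ofBijective (g.residueFieldMap y).hom
      ⟨RingHom.injective _, residueFieldMap_surjective g y⟩) ?_).symm
  rw [RingHom.algebraMap_toAlgebra, RingHom.algebraMap_toAlgebra, toRes_comp]
  rfl

theorem isClosed_preimmersion [LocallyOfFiniteType f] (g : Y ⟶ X) [IsPreimmersion g]
    [LocallyOfFiniteType g] (y : Y) : IsClosed ({y} : Set Y) ↔ IsClosed ({g y} : Set X) := by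
  rw [← residueDegree_pos_iff (g ≫ f), ← residueDegree_pos_iff f, residueDegree_preimmersion]

theorem isImmersion_injective (g : Y ⟶ X) [IsPreimmersion g] : Function.Injective g :=
  g.isEmbedding.injective

theorem degCount_eq_sum_of_partition [Finite k] [LocallyOfFiniteType f] [QuasiCompact f] {ι : Type*}
    [Fintype ι] (W : ι → Scheme.{u}) (g : ∀ i, W i ⟶ X) [∀ i, IsPreimmersion (g i)]
    [∀ i, LocallyOfFiniteType (g i)]
    (hpart : ∀ x : X, IsClosed ({x} : Set X) → ∃! i, x ∈ Set.range (g i)) (e : ℕ) :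
    _root_.Zeta.degCount f e = ∑ i, _root_.Zeta.degCount (g i ≫ f) e := by
  have hfin := finite_degPts f e
  let A : ι → Type u := fun i =>
    { y : W i // IsClosed ({y} : Set (W i)) ∧ EGA4loc.residueDegree (g i ≫ f) y = e }
  have hA : ∀ i, Finite (A i) := fun i =>
    Finite.of_injective
      (fun y : A i => (⟨g i y.1, (isClosed_preimmersion f (g i) y.1).mp y.2.1,
        (residueDegree_preimmersion f (g i) y.1).symm.trans y.2.2⟩ :
        { x : X // IsClosed ({x} : Set X) ∧ EGA4loc.residueDegree f x = e }))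
      fun y z h => Subtype.ext (isImmersion_injective (g i) (congrArg Subtype.val h))
  show Nat.card _ = ∑ i, Nat.card (A i)
  rw [← Nat.card_sigma]
  symm
  refine Nat.card_eq_of_bijective (fun s : Σ i, A i => ⟨g s.1 s.2.1,
    (isClosed_preimmersion f (g s.1) s.2.1).mp s.2.2.1,
    (residueDegree_preimmersion f (g s.1) s.2.1).symm.trans s.2.2.2⟩) ⟨?_, ?_⟩
  · rintro ⟨i, y⟩ ⟨j, z⟩ h
    have h' : g i y.1 = g j z.1 := congrArg Subtype.val h
    obtain rfl : i = j := (hpart (g i y.1) ((isClosed_preimmersion f (g i) y.1).mp y.2.1)).unique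
      ⟨y.1, rfl⟩ ⟨z.1, h'.symm⟩
    obtain rfl : y = z := Subtype.ext (isImmersion_injective (g i) h')
    rfl
  · rintro ⟨x, hx, he⟩
    obtain ⟨i, ⟨y, rfl⟩, -⟩ := hpart x hx
    exact ⟨⟨i, y, (isClosed_preimmersion f (g i) y).mpr hx,
      (residueDegree_preimmersion f (g i) y).trans he⟩, rfl⟩

theorem zetaFun_eq_prod [Finite k] [LocallyOfFiniteType f] [QuasiCompact f] {ι : Type*}
    [Fintype ι] (W : ι → Scheme.{u}) (g : ∀ i, W i ⟶ X) [∀ i, IsPreimmersion (g i)]
    [∀ i, LocallyOfFiniteType (g i)]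
    (hpart : ∀ x : X, IsClosed ({x} : Set X) → ∃! i, x ∈ Set.range (g i)) :
    _root_.Zeta.zetaFun f = ∏ i, _root_.Zeta.zetaFun (g i ≫ f) := by
  refine (isExpOf_zetaFun f).ext (IsExpOf.prod Finset.univ fun i _ => isExpOf_zetaFun (g i ≫ f))
    (nPts_zero f) (by simp [nPts_zero]) fun m _ => ?_
  simp only [_root_.Zeta.nPts, degCount_eq_sum_of_partition f W g hpart, Finset.mul_sum]
  rw [Finset.sum_comm]
  push_cast
  rfl

/-- Points of a base change. -/
noncomputable def ptsBaseChangeEquiv (k₁ : Type u) [Field k₁] [Algebra k k₁] (k₂ : Type u) [Field k₂]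
    [Algebra k₁ k₂] [Algebra k k₂] [IsScalarTower k k₁ k₂] :
    Pts (pullback.snd f (Spec.map (CommRingCat.ofHom (algebraMap k k₁)))) k₂ ≃ Pts f k₂ :=
  have hc : Spec.map (CommRingCat.ofHom (algebraMap k₁ k₂)) ≫
      Spec.map (CommRingCat.ofHom (algebraMap k k₁)) = Spec.map (CommRingCat.ofHom (algebraMap k k₂)) := by
    rw [← Spec.map_comp, ← CommRingCat.ofHom_comp, ← IsScalarTower.algebraMap_eq]
  { toFun := fun g => ⟨g.1 ≫ pullback.fst _ _, by
      rw [Category.assoc, pullback.condition, ← Category.assoc, g.2, hc]⟩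
    invFun := fun g => ⟨pullback.lift g.1 (Spec.map (CommRingCat.ofHom (algebraMap k₁ k₂)))
      (by rw [g.2, hc]), pullback.lift_snd _ _ _⟩
    left_inv := fun g => Subtype.ext (pullback.hom_ext (by rw [pullback.lift_fst])
      (by rw [pullback.lift_snd, g.2]))
    right_inv := fun g => Subtype.ext (pullback.lift_fst _ _ _) }

theorem nPts_baseChange [Finite k] [LocallyOfFiniteType f] [QuasiCompact f] (k₁ : Type u) [Field k₁]
    [Algebra k k₁] [Finite k₁] (m : ℕ) :
    _root_.Zeta.nPts (pullback.snd f (Spec.map (CommRingCat.ofHom (algebraMap k k₁)))) m =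
      _root_.Zeta.nPts f (Module.finrank k k₁ * m) := by
  rcases m.eq_zero_or_pos with rfl | hm
  · simp [_root_.Zeta.nPts]
  · obtain ⟨k₂, _, _, _, hk⟩ := exists_extension k₁ m hm
    letI : Algebra k k₂ := ((algebraMap k₁ k₂).comp (algebraMap k k₁)).toAlgebra
    haveI : IsScalarTower k k₁ k₂ := .of_algebraMap_eq fun _ => rfl
    have : Module.Finite k k₁ := Module.Finite.of_finite
    have : Module.Finite k₁ k₂ := Module.Finite.of_finite
    rw [← hk, Module.finrank_mul_finrank k k₁ k₂, ← pointCount_eq_nPts, ← pointCount_eq_nPts]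
    exact Nat.card_congr (ptsBaseChangeEquiv f k₁ k₂)

end GrothLib.Zeta
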