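import Groth.Prelude.Def_CohB1
import Groth.Agent.Lib.Zeta.Counting
import Groth.Agent.Lib.ProjPt.Basic
import Mathlib.AlgebraicGeometry.AffineSpace

/-!
Points of affine and projective spaces.
-/

set_option linter.style.haveILetI false
set_option linter.unusedSectionVars false
set_option backward.isDefEq.respectTransparency.types false

universe u

open CategoryTheory Limits AlgebraicGeometry HomogeneousLocalization MvPolynomial GrothLib.ProjPt

namespace GrothLib.Zeta

variable {k : Type u} [Field k] {X : Scheme.{u}} (f : X ⟶ Spec (CommRingCat.of k))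
  (k' : Type u) [Field k'] [Algebra k k']

theorem nPts_eq_of_pointCount [Finite k] [LocallyOfFiniteType f] [QuasiCompact f] (c : ℕ → ℕ)
    (h : ∀ (k₁ : Type u) [Field k₁] [Algebra k k₁] [Finite k₁],
      SgaExt.pointCount f k₁ = c (Module.finrank k k₁)) (m : ℕ) (hm : 1 ≤ m) :
    _root_.Zeta.nPts f m = c m := by
  obtain ⟨k₁, _, _, _, hk⟩ := exists_extension k m hm
  rw [← hk, ← pointCount_eq_nPts, h]

/-- Points of affine space. -/
noncomputable def ptsAffineEquiv (n : Type u) :
    Pts ((𝔸(n; X) ↘ X) ≫ f) k' ≃ Pts f k' × (n → k') where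
  toFun g := (⟨g.1 ≫ (𝔸(n; X) ↘ X), by rw [Category.assoc]; exact g.2⟩,
    fun i => (Scheme.ΓSpecIso (CommRingCat.of k')).hom (g.1.appTop (AffineSpace.coord X i)))
  invFun p := ⟨AffineSpace.homOfVector p.1.1
    (fun i => (Scheme.ΓSpecIso (CommRingCat.of k')).inv (p.2 i)), by
      rw [← Category.assoc, AffineSpace.homOfVector_over]; exact p.1.2⟩
  left_inv g := Subtype.ext (AffineSpace.hom_ext (by rw [AffineSpace.homOfVector_over])
    fun i => by
      rw [AffineSpace.homOfVector_appTop_coord]
      exact Iso.hom_inv_id_apply (Scheme.ΓSpecIso (CommRingCat.of k')) _)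
  right_inv p := Prod.ext (Subtype.ext (AffineSpace.homOfVector_over _ _)) <| funext fun i => by
    show (Scheme.ΓSpecIso (CommRingCat.of k')).hom
      ((AffineSpace.homOfVector p.1.1 _).appTop (AffineSpace.coord X i)) = p.2 i
    rw [AffineSpace.homOfVector_appTop_coord]
    exact Iso.inv_hom_id_apply (Scheme.ΓSpecIso (CommRingCat.of k')) _

variable (k) (n : ℕ)

theorem X_mem (i : Fin (n + 1)) :
    (MvPolynomial.X i : MvPolynomial (Fin (n + 1)) k) ∈ CohB1.polyGrading n k 1 :=
  isHomogeneous_X _ i

/-- The ratio `X l / X i`. -/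
noncomputable def ratio (i l : Fin (n + 1)) :
    Away (CohB1.polyGrading n k) (MvPolynomial.X i) :=
  Away.mk (CohB1.polyGrading n k) (X_mem k n i) 1 (MvPolynomial.X l) (by simpa using X_mem k n l)

/-- The base map of a chart. -/
noncomputable def chartBase (i : Fin (n + 1)) :
    k →+* Away (CohB1.polyGrading n k) (MvPolynomial.X i) :=
  (fromZeroRingHom (CohB1.polyGrading n k) _).comp (algebraMap k (CohB1.polyGrading n k 0))

theorem awayι_toSpec (i : Fin (n + 1)) :
    Proj.awayι (CohB1.polyGrading n k) (MvPolynomial.X i) (X_mem k n i) Nat.one_pos ≫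
        CohB1.ProjSpace.toSpec n k = Spec.map (CommRingCat.ofHom (chartBase k n i)) := by
  show _ ≫ Proj.toSpecZero _ ≫ _ = _
  rw [Proj.awayι_toSpecZero_assoc, ← Spec.map_comp]
  rfl

theorem eval₂_mul_of_isHomogeneous {σ R S : Type*} [CommRing R] [CommRing S] (g : R →+* S)
    (v : σ → S) (c : S) {p : MvPolynomial σ R} {m : ℕ} (hp : p.IsHomogeneous m) :
    MvPolynomial.eval₂ g (fun i => c * v i) p = c ^ m * MvPolynomial.eval₂ g v p := by
  simp only [MvPolynomial.eval₂_eq, Finset.mul_sum]
  refine Finset.sum_congr rfl fun d hd => ?_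
  simp only [mul_pow, Finset.prod_mul_distrib, Finset.prod_pow_eq_pow_sum]
  rw [← hp.degree_eq_sum_deg_support hd]
  ring

theorem away_eq_eval (i : Fin (n + 1)) (m : ℕ) (a : MvPolynomial (Fin (n + 1)) k)
    (ha : a ∈ CohB1.polyGrading n k (m • 1)) :
    Away.mk (CohB1.polyGrading n k) (X_mem k n i) m a ha =
      MvPolynomial.eval₂Hom (chartBase k n i) (ratio k n i) a := by
  apply HomogeneousLocalization.val_injective
  rw [Away.val_mk]
  let L := Localization.Away (MvPolynomial.X i : MvPolynomial (Fin (n + 1)) k)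
  let w : L := Localization.mk 1 ⟨MvPolynomial.X i, Submonoid.mem_powers _⟩
  let vh : Away (CohB1.polyGrading n k) (MvPolynomial.X i) →+* L := algebraMap _ L
  show _ = (vh.comp (MvPolynomial.eval₂Hom (chartBase k n i) (ratio k n i))) a
  have hcomp : vh.comp (MvPolynomial.eval₂Hom (chartBase k n i) (ratio k n i)) =
      MvPolynomial.eval₂Hom ((algebraMap (MvPolynomial (Fin (n + 1)) k) L).comp MvPolynomial.C)
        (fun l => w * algebraMap _ L (MvPolynomial.X l : MvPolynomial (Fin (n + 1)) k)) := by
    apply MvPolynomial.ringHom_ext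
    · intro r
      simp only [RingHom.comp_apply, MvPolynomial.eval₂Hom_C]
      show (chartBase k n i r).val = _
      rw [← Localization.mk_one_eq_algebraMap]
      rfl
    · intro l
      simp only [RingHom.comp_apply, MvPolynomial.eval₂Hom_X']
      show (ratio k n i l).val = _
      rw [ratio, Away.val_mk, ← Localization.mk_one_eq_algebraMap, Localization.mk_mul]
      congr 1
      · rw [_root_.one_mul]
      · exact Subtype.ext (by simp)
  rw [hcomp]
  have ha' : MvPolynomial.IsHomogeneous a m := by simpa [CohB1.polyGrading] using ha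
  show _ = MvPolynomial.eval₂ _ _ a
  have h1 : MvPolynomial.eval₂ ((algebraMap (MvPolynomial (Fin (n + 1)) k) L).comp MvPolynomial.C)
      (fun l => w * algebraMap _ L (MvPolynomial.X l : MvPolynomial (Fin (n + 1)) k)) a =
      w ^ m * algebraMap (MvPolynomial (Fin (n + 1)) k) L a := by
    have h2 : algebraMap (MvPolynomial (Fin (n + 1)) k) L a =
        MvPolynomial.eval₂ ((algebraMap (MvPolynomial (Fin (n + 1)) k) L).comp MvPolynomial.C)
          (fun l => algebraMap _ L (MvPolynomial.X l : MvPolynomial (Fin (n + 1)) k)) a := by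
      conv_lhs => rw [← MvPolynomial.eval₂_eta a, MvPolynomial.eval₂_comp_left (algebraMap _ L)]
      rfl
    rw [h2]
    exact eval₂_mul_of_isHomogeneous _ _ w ha'
  rw [h1, Localization.mk_pow, one_pow, ← Localization.mk_one_eq_algebraMap, Localization.mk_mul,
    _root_.one_mul, _root_.mul_one]
  congr 1

theorem chartHom_ext {i : Fin (n + 1)} {S : Type u} [CommRing S]
    {g g' : Away (CohB1.polyGrading n k) (MvPolynomial.X i) →+* S}
    (h0 : g.comp (chartBase k n i) = g'.comp (chartBase k n i))
    (h : ∀ l, g (ratio k n i l) = g' (ratio k n i l)) : g = g' := by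
  refine RingHom.ext fun z => ?_
  obtain ⟨m, a, ha, rfl⟩ := Away.mk_surjective _ (X_mem k n i) z
  rw [away_eq_eval]
  have : g.comp (MvPolynomial.eval₂Hom (chartBase k n i) (ratio k n i)) =
      g'.comp (MvPolynomial.eval₂Hom (chartBase k n i) (ratio k n i)) := by
    apply MvPolynomial.ringHom_ext
    · intro r; simpa using RingHom.congr_fun h0 r
    · intro l; simpa using h l
  exact RingHom.congr_fun this a

/-- Normalised coordinates in the stratum `i`. -/
abbrev Coords (i : Fin (n + 1)) : Type u :=
  { v : Fin (n + 1) → k' // v i = 1 ∧ ∀ l < i, v l = 0 }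

variable {k n}

/-- The chart map of normalised coordinates. -/
noncomputable def coordsHom {i : Fin (n + 1)} (v : Coords k' n i) :
    Away (CohB1.polyGrading n k) (MvPolynomial.X i) →+* k' :=
  evalAway (CohB1.polyGrading n k) (MvPolynomial.eval₂Hom (algebraMap k k') v.1) (MvPolynomial.X i)
    (by rw [MvPolynomial.eval₂Hom_X', v.2.1]; exact isUnit_one)

theorem coordsHom_ratio {i : Fin (n + 1)} (v : Coords k' n i) (l : Fin (n + 1)) :
    coordsHom (k := k) k' v (ratio k n i l) = v.1 l := by
  have h := evalAway_mk_spec (CohB1.polyGrading n k) (MvPolynomial.eval₂Hom (algebraMap k k') v.1)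
    (X_mem k n i) (by rw [MvPolynomial.eval₂Hom_X', v.2.1]; exact isUnit_one) 1 (MvPolynomial.X l)
    (by simpa using X_mem k n l)
  simp only [pow_one, MvPolynomial.eval₂Hom_X', v.2.1, mul_one] at h
  exact h

theorem coordsHom_base {i : Fin (n + 1)} (v : Coords k' n i) :
    (coordsHom (k := k) k' v).comp (chartBase k n i) = algebraMap k k' := by
  refine RingHom.ext fun r => ?_
  have h := evalAway_mk_spec (CohB1.polyGrading n k) (MvPolynomial.eval₂Hom (algebraMap k k') v.1)
    (X_mem k n i) (by rw [MvPolynomial.eval₂Hom_X', v.2.1]; exact isUnit_one) 0 (MvPolynomial.C r)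
    (MvPolynomial.isHomogeneous_C _ r)
  rw [pow_zero, mul_one, MvPolynomial.eval₂Hom_C] at h
  rw [← h, RingHom.comp_apply]
  show coordsHom (k := k) k' v _ = coordsHom (k := k) k' v _
  congr 1

variable (k)

/-- The standard charts. -/
noncomputable def chart (i : Fin (n + 1)) :
    Spec (CommRingCat.of (Away (CohB1.polyGrading n k) (MvPolynomial.X i))) ⟶ CohB1.ProjSpace n k :=
  Proj.awayι (CohB1.polyGrading n k) (MvPolynomial.X i) (X_mem k n i) Nat.one_pos

instance isOpenImmersion_chart (i : Fin (n + 1)) : IsOpenImmersion (chart k (n := n) i) :=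
  inferInstanceAs (IsOpenImmersion (Proj.awayι _ _ _ _))

theorem chart_preimage (i l : Fin (n + 1))
    (y : ↥(Spec (CommRingCat.of (Away (CohB1.polyGrading n k) (MvPolynomial.X i))))) :
    chart k i y ∈ Proj.basicOpen (CohB1.polyGrading n k) (MvPolynomial.X l) ↔
      ratio k n i l ∉ (y : PrimeSpectrum _).asIdeal := by
  have e : Away.isLocalizationElem (X_mem k n i) (X_mem k n l) = ratio k n i l := by
    apply HomogeneousLocalization.val_injective
    simp [ratio, Away.val_mk]
  have h := Proj.awayι_preimage_basicOpen (CohB1.polyGrading n k) (X_mem k n i) Nat.one_pos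
    (X_mem k n l) Nat.one_pos
  rw [e] at h
  exact (SetLike.ext_iff.mp h y)

theorem range_chart (i : Fin (n + 1)) :
    Set.range (chart k i) =
      (Proj.basicOpen (CohB1.polyGrading n k) (MvPolynomial.X i) : Set (Proj (CohB1.polyGrading n k))) :=
  congrArg (fun U : TopologicalSpace.Opens _ => (U : Set (Proj (CohB1.polyGrading n k))))
    (Proj.opensRange_awayι (CohB1.polyGrading n k) (MvPolynomial.X i) (X_mem k n i) Nat.one_pos)

/-- The point of projective space with given chart map. -/
noncomputable def chartPt {i : Fin (n + 1)}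
    (g : Away (CohB1.polyGrading n k) (MvPolynomial.X i) →+* k') :
    Spec (CommRingCat.of k') ⟶ CohB1.ProjSpace n k :=
  Spec.map (CommRingCat.ofHom g) ≫ chart k i

theorem chartPt_toSpec {i : Fin (n + 1)}
    (g : Away (CohB1.polyGrading n k) (MvPolynomial.X i) →+* k') :
    chartPt k k' g ≫ CohB1.ProjSpace.toSpec n k =
      Spec.map (CommRingCat.ofHom (g.comp (chartBase k n i))) :=
  (Category.assoc _ _ _).trans ((congrArg (Spec.map (CommRingCat.ofHom g) ≫ ·)
    (awayι_toSpec k n i)).trans (Spec.map_comp _ _).symm)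

theorem chartPt_mem_iff {i : Fin (n + 1)}
    (g : Away (CohB1.polyGrading n k) (MvPolynomial.X i) →+* k') (l : Fin (n + 1))
    (z : ↥(Spec (CommRingCat.of k'))) :
    chartPt k k' g z ∈ Proj.basicOpen (CohB1.polyGrading n k) (MvPolynomial.X l) ↔
      g (ratio k n i l) ≠ 0 := by
  rw [chartPt, Scheme.Hom.comp_apply, chart_preimage]
  show ratio k n i l ∉ (PrimeSpectrum.comap g z).asIdeal ↔ _
  rw [PrimeSpectrum.comap_asIdeal, Ideal.mem_comap]
  have hz : (z : PrimeSpectrum k').asIdeal = ⊥ :=
    (Ideal.eq_bot_or_top _).resolve_right (z : PrimeSpectrum k').isPrime.ne_top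
  rw [hz, Ideal.mem_bot]

theorem iSup_basicOpen : ⨆ i : Fin (n + 1),
    Proj.basicOpen (CohB1.polyGrading n k) (MvPolynomial.X i) = ⊤ := by
  refine Proj.iSup_basicOpen_eq_top' (CohB1.polyGrading n k) (fun i => MvPolynomial.X i)
    (fun i => ⟨1, X_mem k n i⟩) (top_le_iff.mp fun p _ => ?_)
  induction p using MvPolynomial.induction_on with
  | C r =>
    exact Subalgebra.algebraMap_mem _
      (⟨MvPolynomial.C r, MvPolynomial.isHomogeneous_C _ r⟩ : CohB1.polyGrading n k 0)
  | add p q hp hq => exact add_mem (hp trivial) (hq trivial)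
  | mul_X p i hp => exact mul_mem (hp trivial) (Algebra.subset_adjoin ⟨i, rfl⟩)

theorem bijective_coords (k' : Type u) [Field k'] [Algebra k k'] :
    Function.Bijective (fun s : Σ i : Fin (n + 1), Coords k' n i =>
      (⟨chartPt k k' (coordsHom k' s.2), by
        rw [chartPt_toSpec, coordsHom_base]⟩ :
        Pts (CohB1.ProjSpace.toSpec n k) k')) := by
  constructor
  · rintro ⟨i, v⟩ ⟨j, w⟩ h
    have h' := congrArg Subtype.val h
    dsimp only at h'
    have key : ∀ l, (v.1 l ≠ 0 ↔ w.1 l ≠ 0) := fun l => by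
      rw [← coordsHom_ratio (k := k) k' v, ← coordsHom_ratio (k := k) k' w,
        ← chartPt_mem_iff k k' (coordsHom k' v) l default, ← chartPt_mem_iff k k' _ l default, h']
    have hij : i = j := by
      rcases lt_trichotomy i j with h1 | h1 | h1
      · exact absurd (w.2.2 i h1) ((key i).mp (by rw [v.2.1]; exact one_ne_zero))
      · exact h1
      · exact absurd (v.2.2 j h1) ((key j).mpr (by rw [w.2.1]; exact one_ne_zero))
    subst hij
    rw [chartPt, chartPt, cancel_mono, Spec.map_inj] at h'
    have h'' := congrArg CommRingCat.Hom.hom h'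
    obtain rfl : v = w := Subtype.ext (funext fun l => by
      rw [← coordsHom_ratio (k := k) k' v, ← coordsHom_ratio (k := k) k' w]
      exact RingHom.congr_fun h'' _)
    rfl
  · rintro ⟨g, hg⟩
    classical
    have hne : ∃ l : Fin (n + 1),
        g default ∈ Proj.basicOpen (CohB1.polyGrading n k) (MvPolynomial.X l) :=
      TopologicalSpace.Opens.mem_iSup.mp ((iSup_basicOpen k).ge (Set.mem_univ _))
    set P := fun l : Fin (n + 1) =>
      g default ∈ Proj.basicOpen (CohB1.polyGrading n k) (MvPolynomial.X l) with hP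
    obtain ⟨i, hi, hmin⟩ : ∃ i, P i ∧ ∀ l < i, ¬ P l := by
      obtain ⟨i, hi⟩ := (Finset.univ.filter P).exists_min_image id
        ⟨hne.choose, Finset.mem_filter.mpr ⟨Finset.mem_univ _, hne.choose_spec⟩⟩
      exact ⟨i, (Finset.mem_filter.mp hi.1).2, fun l hl h =>
        absurd (hi.2 l (Finset.mem_filter.mpr ⟨Finset.mem_univ _, h⟩)) (not_le.mpr hl)⟩
    have hr : Set.range g ⊆ Set.range (chart k i) := by
      rintro _ ⟨z, rfl⟩
      rw [Subsingleton.elim z default, range_chart]
      exact hi
    obtain ⟨φ, hφ⟩ : ∃ φ, Spec.map φ = IsOpenImmersion.lift _ g hr := ⟨_, Spec.map_preimage _⟩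
    have hgφ : g = chartPt k k' φ.hom := by
      rw [chartPt, CommRingCat.ofHom_hom, hφ, IsOpenImmersion.lift_fac]
    subst hgφ
    have hbase : φ.hom.comp (chartBase k n i) = algebraMap k k' := by
      rw [chartPt_toSpec, Spec.map_inj] at hg
      exact congrArg CommRingCat.Hom.hom hg
    refine ⟨⟨i, fun l => φ.hom (ratio k n i l), ?_, fun l hl => ?_⟩, ?_⟩
    · have : ratio k n i i = 1 := by
        apply HomogeneousLocalization.val_injective
        rw [ratio, Away.val_mk, HomogeneousLocalization.val_one, Localization.mk_eq_mk',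
          IsLocalization.mk'_eq_iff_eq_mul]
        simp
      show φ.hom (ratio k n i i) = 1
      rw [this, map_one]
    · by_contra h
      exact hmin l hl ((chartPt_mem_iff k k' φ.hom l default).mpr h)
    · refine Subtype.ext (congrArg (chartPt k k') (chartHom_ext k n ?_ fun l => ?_))
      · rw [coordsHom_base, hbase]
      · rw [coordsHom_ratio]

theorem natCard_coords [Finite k'] (i : Fin (n + 1)) :
    Nat.card (Coords k' n i) = Nat.card k' ^ (n - i.val) := by
  classical
  have e : Coords k' n i ≃ ({ l : Fin (n + 1) // i < l } → k') :=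
  { toFun := fun v l => v.1 l.1
    invFun := fun w => ⟨fun l => if h : i < l then w ⟨l, h⟩ else if l = i then 1 else 0,
      by simp, fun l hl => by dsimp only; rw [dif_neg hl.not_gt, if_neg hl.ne]⟩
    left_inv := fun v => Subtype.ext (funext fun l => by
      rcases lt_trichotomy i l with h | h | h
      · simp [h]
      · subst h; simp [v.2.1]
      · simp [h.not_gt, h.ne, v.2.2 l h])
    right_inv := fun w => funext fun l => by simp [l.2] }
  rw [Nat.card_congr e, Nat.card_fun]
  congr 1
  rw [Nat.card_eq_fintype_card, Fintype.card_subtype]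
  rw [show Finset.univ.filter (fun l => i < l) = Finset.Ioi i by ext; simp, Fin.card_Ioi]
  omega

theorem pointCount_projSpace (k' : Type u) [Field k'] [Algebra k k'] [Finite k'] :
    SgaExt.pointCount (CohB1.ProjSpace.toSpec n k) k' =
      ∑ j ∈ Finset.range (n + 1), Nat.card k' ^ j := by
  have e := Nat.card_eq_of_bijective _ (bijective_coords (n := n) k k')
  show Nat.card (Pts (CohB1.ProjSpace.toSpec n k) k') = _
  rw [← e, Nat.card_sigma]
  simp only [natCard_coords]
  rw [Fin.sum_univ_eq_sum_range (fun i => Nat.card k' ^ (n - i)),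
    ← Finset.sum_range_reflect (fun j => Nat.card k' ^ j) (n + 1)]
  exact Finset.sum_congr rfl fun j _ => by congr 1

end GrothLib.Zeta
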