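import Groth.Agent.Lib.Zeta.Bound
import Mathlib.NumberTheory.LSeries.Convergence
import Mathlib.Analysis.Normed.Ring.InfiniteSum

/-!
The Dirichlet series of a scheme of finite type over a finite field.
-/

set_option linter.style.haveILetI false

universe u

open CategoryTheory Limits AlgebraicGeometry

namespace GrothLib.Zeta

open PowerSeries in
theorem IsExpOf.exists_abs_coeff_le {N : ℕ → ℚ} {F : PowerSeries ℚ} (h : IsExpOf N F) (h0 : N 0 = 0)
    {c Q B : ℝ} (hc : 0 ≤ c) (hQ : 0 < Q) (hQB : Q < B)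
    (hN : ∀ j, 1 ≤ j → |(N j : ℝ)| ≤ c * Q ^ j) :
    ∃ A : ℝ, 0 ≤ A ∧ ∀ d, |((PowerSeries.coeff d F : ℚ) : ℝ)| ≤ A * B ^ d := by
  have hB : 0 < B := hQ.trans hQB
  set ρ := Q / B with hρ
  have hρ0 : 0 ≤ ρ := by positivity
  have hρ1 : ρ < 1 := (div_lt_one hB).mpr hQB
  set K := c * (1 - ρ)⁻¹ with hK
  obtain ⟨D, hD⟩ := exists_nat_ge K
  set A := ∑ i ∈ Finset.range (D + 1), |((PowerSeries.coeff i F : ℚ) : ℝ)| / B ^ i with hA
  have hA0 : 0 ≤ A := Finset.sum_nonneg fun i _ => by positivity
  refine ⟨A, hA0, fun d => ?_⟩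
  induction d using Nat.strong_induction_on with
  | _ d ih =>
    rcases lt_or_ge d (D + 1) with hd | hd
    · rw [← div_le_iff₀ (by positivity)]
      exact Finset.single_le_sum (f := fun i => |((PowerSeries.coeff i F : ℚ) : ℝ)| / B ^ i)
        (fun i _ => by positivity) (Finset.mem_range.mpr hd)
    · have hd0 : (0 : ℝ) < d := by exact_mod_cast (by omega : 0 < d)
      have e := h.coeff_mul_self d
      rw [PowerSeries.coeff_mul, Finset.Nat.sum_antidiagonal_eq_sum_range_succ
        (fun i j => PowerSeries.coeff i F * PowerSeries.coeff j (PowerSeries.mk N)),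
        Finset.sum_range_succ] at e
      simp only [PowerSeries.coeff_mk, Nat.sub_self, h0, mul_zero, add_zero] at e
      have e' := congrArg (fun q : ℚ => |(q : ℝ)|) e
      simp only [Rat.cast_mul, Rat.cast_natCast, Rat.cast_sum, abs_mul, abs_of_pos hd0] at e'
      have hstep : (d : ℝ) * |((PowerSeries.coeff d F : ℚ) : ℝ)| ≤ K * (A * B ^ d) := by
        rw [e']
        refine (Finset.abs_sum_le_sum_abs _ _).trans ?_
        have hb : ∀ i ∈ Finset.range d,
            |((PowerSeries.coeff i F : ℚ) : ℝ) * (N (d - i) : ℝ)| ≤ c * A * B ^ d * ρ ^ (d - i) := by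
          intro i hi
          rw [Finset.mem_range] at hi
          rw [abs_mul]
          refine (mul_le_mul (ih i hi) (hN (d - i) (by omega)) (abs_nonneg _) (by positivity)).trans
            (le_of_eq ?_)
          rw [hρ, div_pow]
          have : B ^ d = B ^ i * B ^ (d - i) := by rw [← pow_add, Nat.add_sub_cancel' hi.le]
          rw [this]
          field_simp
        refine (Finset.sum_le_sum hb).trans ?_
        rw [← Finset.mul_sum, hK,
          show c * (1 - ρ)⁻¹ * (A * B ^ d) = c * A * B ^ d * (1 - ρ)⁻¹ by ring]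
        refine mul_le_mul_of_nonneg_left ?_ (by positivity)
        refine le_trans ?_ (le_of_eq (tsum_geometric_of_lt_one hρ0 hρ1))
        rw [← Finset.sum_image (f := fun j => ρ ^ j) (g := fun i => d - i) (fun a ha b hb hab => by
          simp only [Finset.coe_range, Set.mem_Iio] at ha hb hab; omega)]
        exact (summable_geometric_of_lt_one hρ0 hρ1).sum_le_tsum _ fun j _ => by positivity
      have hKd : K ≤ d := hD.trans (by exact_mod_cast (by omega : D ≤ d))
      have : (d : ℝ) * |((PowerSeries.coeff d F : ℚ) : ℝ)| ≤ (d : ℝ) * (A * B ^ d) :=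
        hstep.trans (mul_le_mul_of_nonneg_right hKd (by positivity))
      exact le_of_mul_le_mul_left this hd0

variable {k : Type u} [Field k] [Finite k] {Y : Scheme.{u}} (f : Y ⟶ Spec (CommRingCat.of k))
  [LocallyOfFiniteType f] [QuasiCompact f]

/-- Effective zero cycles of a given degree. -/
abbrev Cycles (d : ℕ) : Type u :=
  { α : Y →₀ ℕ // (∀ x ∈ α.support, IsClosed ({x} : Set Y)) ∧
    α.sum (fun x m => EGA4loc.residueDegree f x * m) = d }

theorem finite_closedPts_le (d : ℕ) :
    {x : Y | IsClosed ({x} : Set Y) ∧ EGA4loc.residueDegree f x ≤ d}.Finite := by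
  have : {x : Y | IsClosed ({x} : Set Y) ∧ EGA4loc.residueDegree f x ≤ d} =
      ⋃ e ∈ (Finset.range (d + 1) : Finset ℕ),
        {x : Y | IsClosed ({x} : Set Y) ∧ EGA4loc.residueDegree f x = e} := by
    ext x
    simp only [Set.mem_ofPred_eq, Set.mem_iUnion, Finset.mem_range, exists_prop]
    exact ⟨fun h => ⟨_, by omega, h.1, rfl⟩, fun ⟨e, he, h1, h2⟩ => ⟨h1, by omega⟩⟩
  rw [this]
  exact Set.Finite.biUnion (Finset.finite_toSet _) fun e _ => Set.finite_coe_iff.mp (finite_degPts f e)

theorem natCard_cycles_eq (d : ℕ) :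
    (Nat.card (Cycles f d) : ℚ) = PowerSeries.coeff d (_root_.Zeta.zetaFun f) := by
  classical
  set S := (finite_closedPts_le f d).toFinset with hS
  have hmem : ∀ x, x ∈ S ↔ IsClosed ({x} : Set Y) ∧ EGA4loc.residueDegree f x ≤ d := fun x => by
    simp [hS]
  have hpos : ∀ x ∈ S, 0 < EGA4loc.residueDegree f x := fun x hx =>
    (residueDegree_pos_iff f x).mpr ((hmem x).mp hx).1
  let φ : Y → PowerSeries ℚ := fun x =>
    PowerSeries.mk fun j => if EGA4loc.residueDegree f x ∣ j then 1 else 0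
  have hφ : ∀ x ∈ S, IsExpOf (fun m => -binomExp (EGA4loc.residueDegree f x) (1 : ℚ) m) (φ x) := by
    intro x hx
    set e := EGA4loc.residueDegree f x with he
    have hinv : (1 - PowerSeries.C (1 : ℚ) * PowerSeries.X ^ e) * φ x = 1 := by
      ext j
      rw [map_one, one_mul, sub_mul, one_mul, map_sub, PowerSeries.coeff_X_pow_mul',
        PowerSeries.coeff_one, PowerSeries.coeff_mk]
      rcases Nat.eq_zero_or_pos j with rfl | hj
      · have := hpos x hx
        simp [φ, ← he]
        omega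
      · by_cases h : e ≤ j
        · have : e ∣ j ↔ e ∣ j - e := by
            conv_lhs => rw [← Nat.sub_add_cancel h]
            exact Nat.dvd_add_self_right
          rw [if_pos h, PowerSeries.coeff_mk, ← he, if_neg hj.ne']
          by_cases h' : e ∣ j <;> simp [h', this.not.mp, ← this]
        · have : ¬ e ∣ j := fun hd => h (Nat.le_of_dvd hj hd)
          rw [if_neg h, ← he, if_neg this, if_neg hj.ne']
          simp
    exact (isExpOf_one_sub (hpos x hx).ne' (1 : ℚ)).of_mul_eq_one hinv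
  have h1 : PowerSeries.coeff d (_root_.Zeta.zetaFun f) = PowerSeries.coeff d (∏ x ∈ S, φ x) := by
    refine (isExpOf_zetaFun f).coeff_eq (IsExpOf.prod S hφ) (nPts_zero f)
      (by simp [binomExp]) d fun m h1 h2 => ?_
    have hm : m ≠ 0 := by omega
    rw [Finset.sum_congr rfl fun x _ => show -binomExp (EGA4loc.residueDegree f x) (1 : ℚ) m =
        if EGA4loc.residueDegree f x ∣ m then (EGA4loc.residueDegree f x : ℚ) else 0 by
      by_cases h : EGA4loc.residueDegree f x ∣ m <;> simp [binomExp, hm, h], ← Finset.sum_filter]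
    rw [_root_.Zeta.nPts, ← Finset.sum_fiberwise_of_maps_to
      (g := fun x => EGA4loc.residueDegree f x) (t := m.divisors)
      (fun x hx => Nat.mem_divisors.mpr ⟨(Finset.mem_filter.mp hx).2, hm⟩)]
    push_cast
    refine Finset.sum_congr rfl fun e he => ?_
    rw [Finset.sum_congr rfl (fun x hx => by rw [(Finset.mem_filter.mp hx).2]), Finset.sum_const,
      nsmul_eq_mul, mul_comm, _root_.Zeta.degCount]
    congr 2
    rw [Nat.mem_divisors] at he
    rw [← Nat.card_eq_finsetCard]
    exact Nat.card_congr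
      { toFun := fun x => ⟨x.1, Finset.mem_filter.mpr ⟨Finset.mem_filter.mpr
          ⟨(hmem x.1).mpr ⟨x.2.1, by rw [x.2.2]; exact (Nat.le_of_dvd (by omega) he.1).trans h2⟩,
            by rw [x.2.2]; exact he.1⟩, x.2.2⟩⟩
        invFun := fun x => ⟨x.1,
          ((hmem x.1).mp (Finset.mem_filter.mp (Finset.mem_filter.mp x.2).1).1).1,
          (Finset.mem_filter.mp x.2).2⟩
        left_inv := fun x => rfl
        right_inv := fun x => rfl }
  let T : Finset (Y →₀ ℕ) := (Finset.finsuppAntidiag S d).filter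
    fun l => ∀ x ∈ S, EGA4loc.residueDegree f x ∣ l x
  have hT : ∀ l, l ∈ T ↔ (∑ x ∈ S, l x = d ∧ l.support ⊆ S) ∧
      ∀ x ∈ S, EGA4loc.residueDegree f x ∣ l x := fun l => by
    simp only [T, Finset.mem_filter, Finset.mem_finsuppAntidiag]
  have h2 : PowerSeries.coeff d (∏ x ∈ S, φ x) = ((T.card : ℕ) : ℚ) := by
    rw [PowerSeries.coeff_prod]
    simp only [φ, PowerSeries.coeff_mk, Finset.prod_boole]
    rw [Finset.sum_boole]
  rw [h1, h2]
  congr 1
  rw [← Nat.card_eq_finsetCard]
  have hsupp : ∀ α : Cycles f d, α.1.support ⊆ S := fun α x hx => (hmem x).mpr ⟨α.2.1 x hx, by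
    have h3 := Finset.single_le_sum (f := fun y => EGA4loc.residueDegree f y * α.1 y)
      (fun _ _ => Nat.zero_le _) hx
    have h4 : EGA4loc.residueDegree f x * α.1 x ≤ d := h3.trans α.2.2.le
    exact (Nat.le_mul_of_pos_right _ (Nat.pos_of_ne_zero (Finsupp.mem_support_iff.mp hx))).trans h4⟩
  refine Nat.card_eq_of_bijective (fun α : Cycles f d =>
    (⟨Finsupp.onFinset S (fun x => EGA4loc.residueDegree f x * α.1 x)
      (fun x hx => hsupp α (Finsupp.mem_support_iff.mpr fun h => hx (by simp [h]))),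
      (hT _).mpr ⟨⟨?_, Finsupp.support_onFinset_subset⟩, fun x _ => by simp⟩⟩ : T)) ⟨?_, ?_⟩
  · simp only [Finsupp.onFinset_apply]
    rw [← Finset.sum_subset (hsupp α) (fun x _ hx => by simp [Finsupp.notMem_support_iff.mp hx])]
    exact α.2.2
  · intro α β h
    have h' := fun x => DFunLike.congr_fun (congrArg Subtype.val h) x
    simp only [Finsupp.onFinset_apply] at h'
    refine Subtype.ext (Finsupp.ext fun x => ?_)
    by_cases hx : x ∈ S
    · exact Nat.eq_of_mul_eq_mul_left (hpos x hx) (h' x)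
    · rw [Finsupp.notMem_support_iff.mp fun hh => hx (hsupp α hh),
        Finsupp.notMem_support_iff.mp fun hh => hx (hsupp β hh)]
  · rintro ⟨l, hl⟩
    rw [hT] at hl
    let α : Y →₀ ℕ := Finsupp.onFinset S (fun x => l x / EGA4loc.residueDegree f x)
      fun x hx => hl.1.2 (Finsupp.mem_support_iff.mpr fun h => hx (by simp [h]))
    have hmul : ∀ x, EGA4loc.residueDegree f x * α x = l x := fun x => by
      by_cases hx : x ∈ S
      · exact Nat.mul_div_cancel' (hl.2 x hx)
      · have : l x = 0 := Finsupp.notMem_support_iff.mp fun hh => hx (hl.1.2 hh)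
        simp [α, this]
    refine ⟨⟨α, fun x hx => ((hmem x).mp (Finsupp.support_onFinset_subset hx)).1, ?_⟩,
      Subtype.ext (Finsupp.ext hmul)⟩
    rw [Finsupp.sum_of_support_subset α Finsupp.support_onFinset_subset _ (fun _ _ => Nat.mul_zero _)]
    simp only [hmul]
    exact hl.1.1

omit [QuasiCompact f] in
theorem cycleNormCount_pow (d : ℕ) :
    _root_.Zeta.cycleNormCount Y (Nat.card k ^ d) = Nat.card (Cycles f d) := by
  refine Nat.card_congr (Equiv.subtypeEquivRight fun α => and_congr_right fun hα => ?_)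
  have h : α.prod (fun x m => Nat.card (Y.residueField x) ^ m) =
      Nat.card k ^ α.sum (fun x m => EGA4loc.residueDegree f x * m) := by
    rw [Finsupp.prod, Finsupp.sum, ← Finset.prod_pow_eq_pow_sum]
    exact Finset.prod_congr rfl fun x hx => by rw [natCard_residueField f (hα x hx), ← pow_mul]
  rw [h]
  exact Nat.pow_right_inj Finite.one_lt_card

theorem arithCoeff_pow (d : ℕ) :
    _root_.Zeta.arithCoeff Y (Nat.card k ^ d) =
      ((PowerSeries.coeff d (_root_.Zeta.zetaFun f) : ℚ) : ℂ) := by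
  rw [_root_.Zeta.arithCoeff, cycleNormCount_pow f, ← natCard_cycles_eq f d, Rat.cast_natCast]

include f in
omit [QuasiCompact f] in
theorem arithCoeff_eq_zero {n : ℕ} (hn : ∀ d, Nat.card k ^ d ≠ n) :
    _root_.Zeta.arithCoeff Y n = 0 := by
  have : IsEmpty { α : Y →₀ ℕ // (∀ x ∈ α.support, IsClosed ({x} : Set Y)) ∧
      α.prod (fun x m => Nat.card (Y.residueField x) ^ m) = n } := ⟨fun ⟨α, hα, h⟩ => by
    refine hn (α.sum fun x m => EGA4loc.residueDegree f x * m) ?_
    rw [← h, Finsupp.prod, Finsupp.sum, ← Finset.prod_pow_eq_pow_sum]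
    exact Finset.prod_congr rfl fun x hx => by rw [natCard_residueField f (hα x hx), ← pow_mul]⟩
  rw [_root_.Zeta.arithCoeff, _root_.Zeta.cycleNormCount, Nat.card_of_isEmpty, Nat.cast_zero]

theorem term_pow (s : ℂ) (d : ℕ) :
    LSeries.term (_root_.Zeta.arithCoeff Y) s (Nat.card k ^ d) =
      ((PowerSeries.coeff d (_root_.Zeta.zetaFun f) : ℚ) : ℂ) * (((Nat.card k : ℂ) ^ s)⁻¹) ^ d := by
  rw [LSeries.term_of_ne_zero (pow_ne_zero _ Nat.card_pos.ne'), arithCoeff_pow f, div_eq_mul_inv,
    inv_pow]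
  congr 2
  induction d with
  | zero => simp
  | succ d ih =>
    rw [pow_succ, pow_succ, ← ih, Nat.cast_mul, Complex.natCast_mul_natCast_cpow]

include f in
omit [QuasiCompact f] in
theorem term_eq_zero (s : ℂ) :
    ∀ n ∉ Set.range (fun d : ℕ => Nat.card k ^ d),
      LSeries.term (_root_.Zeta.arithCoeff Y) s n = 0 := by
  intro n hn
  rcases eq_or_ne n 0 with rfl | h0
  · exact LSeries.term_zero _ _
  · rw [LSeries.term_of_ne_zero h0, arithCoeff_eq_zero f fun d hd => hn ⟨d, hd⟩, zero_div]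

include f in
theorem summable_and_ne_zero (r : ℕ) (hr : topologicalKrullDim Y ≤ r) (s : ℂ) (hs : (r : ℝ) < s.re) :
    LSeriesSummable (_root_.Zeta.arithCoeff Y) s ∧ LSeries (_root_.Zeta.arithCoeff Y) s ≠ 0 := by
  obtain ⟨c, hc⟩ := exists_pointCount_le f r hr
  set q : ℝ := (Nat.card k : ℝ) with hq
  have hq1 : 1 < q := by rw [hq]; exact_mod_cast Finite.one_lt_card
  have hinj : Function.Injective (fun d : ℕ => Nat.card k ^ d) :=
    Nat.pow_right_injective Finite.one_lt_card
  have hN : ∀ j, 1 ≤ j → |(((_root_.Zeta.nPts f j : ℚ)) : ℝ)| ≤ (c : ℝ) * (q ^ r) ^ j := by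
    intro j hj
    obtain ⟨k₁, _, _, _, hk⟩ := exists_extension k j hj
    have : Module.Finite k k₁ := Module.Finite.of_finite
    have h := hc k₁
    rw [pointCount_eq_nPts, hk, Module.natCard_eq_pow_finrank (K := k) (V := k₁), hk, ← pow_mul,
      mul_comm j r, pow_mul] at h
    rw [Rat.cast_natCast, Nat.abs_cast, hq]
    exact_mod_cast h
  have hQ : (0 : ℝ) < q ^ r := by positivity
  obtain ⟨ρ, hρr, hρs⟩ := exists_between hs
  have hQB : q ^ r < q ^ ρ := by
    rw [← Real.rpow_natCast]
    exact Real.rpow_lt_rpow_of_exponent_lt hq1 hρr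
  set x : ℂ := ((Nat.card k : ℂ) ^ s)⁻¹ with hx
  have hxn : ‖x‖ = (q ^ s.re)⁻¹ := by
    rw [hx, norm_inv, Complex.norm_natCast_cpow_of_pos Nat.card_pos]
  have key : ∀ {N : ℕ → ℚ} {F : PowerSeries ℚ}, IsExpOf N F → N 0 = 0 →
      (∀ j, 1 ≤ j → |(N j : ℝ)| ≤ (c : ℝ) * (q ^ r) ^ j) →
      Summable fun d => ‖((PowerSeries.coeff d F : ℚ) : ℂ) * x ^ d‖ := by
    intro N F hF h0 hN
    obtain ⟨A, hA, hA'⟩ := hF.exists_abs_coeff_le h0 (Nat.cast_nonneg c) hQ hQB hN
    refine Summable.of_nonneg_of_le (fun _ => norm_nonneg _) (fun d => ?_)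
      ((summable_geometric_of_lt_one (r := q ^ ρ * (q ^ s.re)⁻¹) (by positivity) ?_).mul_left A)
    · rw [norm_mul, norm_pow, hxn, mul_pow, ← mul_assoc, Complex.norm_ratCast]
      exact mul_le_mul_of_nonneg_right (hA' d) (by positivity)
    · rw [← div_eq_mul_inv, div_lt_one (by positivity)]
      exact Real.rpow_lt_rpow_of_exponent_lt hq1 hρs
  have hF := isExpOf_zetaFun f
  have h1 := key hF (nPts_zero f) hN
  have hsum : Summable fun d => ((PowerSeries.coeff d (_root_.Zeta.zetaFun f) : ℚ) : ℂ) * x ^ d :=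
    h1.of_norm
  constructor
  · show Summable _
    refine (hinj.summable_iff (term_eq_zero f s)).mp ?_
    exact hsum.congr fun d => (term_pow f s d).symm
  · have hL : LSeries (_root_.Zeta.arithCoeff Y) s =
        ∑' d, ((PowerSeries.coeff d (_root_.Zeta.zetaFun f) : ℚ) : ℂ) * x ^ d := by
      rw [LSeries, ← hinj.tsum_eq (f := LSeries.term (_root_.Zeta.arithCoeff Y) s)
        (fun n hn => by_contra fun h => hn (term_eq_zero f s n h))]
      exact tsum_congr fun d => term_pow f s d
    obtain ⟨G, hG⟩ : ∃ G, _root_.Zeta.zetaFun f * G = 1 :=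
      ((PowerSeries.isUnit_iff_constantCoeff).mpr (by rw [hF.const]; exact isUnit_one)).exists_right_inv
    have h2 := key (hF.of_mul_eq_one hG) (by simp [nPts_zero]) (fun j hj => by
      rw [Rat.cast_neg, abs_neg]; exact hN j hj)
    intro h0
    have hp := tsum_mul_tsum_eq_tsum_sum_antidiagonal_of_summable_norm h1 h2
    rw [← hL, h0, zero_mul, tsum_eq_single 0 fun d hd => ?_] at hp
    · have hG0 : PowerSeries.constantCoeff G = 1 := (hF.of_mul_eq_one hG).const
      simp [hF.const, hG0] at hp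
    · have h3 : ∑ kl ∈ Finset.HasAntidiagonal.antidiagonal d,
          ((PowerSeries.coeff kl.1 (_root_.Zeta.zetaFun f) : ℚ) : ℂ) * x ^ kl.1 *
            (((PowerSeries.coeff kl.2 G : ℚ) : ℂ) * x ^ kl.2) =
          ((PowerSeries.coeff d (_root_.Zeta.zetaFun f * G) : ℚ) : ℂ) * x ^ d := by
        rw [PowerSeries.coeff_mul, Rat.cast_sum, Finset.sum_mul]
        refine Finset.sum_congr rfl fun kl hkl => ?_
        rw [Finset.mem_antidiagonal] at hkl
        rw [Rat.cast_mul, ← hkl, pow_add]
        ring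
      rw [h3, hG, PowerSeries.coeff_one, if_neg hd]
      simp

end GrothLib.Zeta
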