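import Mathlib.Algebra.BigOperators.Ring.Finset
import Mathlib.Data.Finsupp.Indicator
import Mathlib.Data.Nat.Choose.Sum
import Mathlib.NumberTheory.LSeries.Convergence
import Mathlib.Analysis.Normed.Ring.InfiniteSum
import Mathlib.Analysis.SpecialFunctions.Pow.Real

/-!
Sums over formal combinations of a countable family of norms (Euler products).
-/

open scoped BigOperators

namespace GrothLib.Zeta

variable {ι : Type*}

theorem summable_finsupp_prod {x : ι → ℝ} (h0 : ∀ i, 0 ≤ x i) {ρ : ℝ} (hρ : ρ < 1)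
    (hxρ : ∀ i, x i ≤ ρ) (hx : Summable x) :
    Summable fun α : ι →₀ ℕ => α.prod fun i m => x i ^ m := by
  classical
  refine summable_of_sum_le (fun α => Finset.prod_nonneg fun i _ => pow_nonneg (h0 i) _)
    (c := Real.exp ((1 - ρ)⁻¹ * ∑' i, x i)) fun u => ?_
  let S : Finset ι := u.biUnion Finsupp.support
  let M : ℕ := u.sup fun α => S.sup α
  have hS : ∀ α ∈ u, α.support ⊆ S := fun α hα => Finset.subset_biUnion_of_mem Finsupp.support hα
  let Q : Finset (S → ℕ) := Fintype.piFinset fun _ : S => Finset.range (M + 1)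
  calc ∑ α ∈ u, α.prod (fun i m => x i ^ m)
      = ∑ p ∈ u.image (fun α (i : S) => α i.1), ∏ i : S, x i.1 ^ p i := by
        rw [Finset.sum_image fun α hα β hβ h => Finsupp.ext fun i => ?_]
        · refine Finset.sum_congr rfl fun α hα => ?_
          rw [Finsupp.prod_of_support_subset α (hS α hα) (fun i m => x i ^ m) fun i _ => pow_zero _,
            ← Finset.prod_coe_sort S fun i => x i ^ α i]
        · by_cases hi : i ∈ S
          · exact congrFun h ⟨i, hi⟩
          · rw [Finsupp.notMem_support_iff.mp fun h' => hi (hS α hα h'),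
              Finsupp.notMem_support_iff.mp fun h' => hi (hS β hβ h')]
    _ ≤ ∑ p ∈ Q, ∏ i : S, x i.1 ^ p i := by
        refine Finset.sum_le_sum_of_subset_of_nonneg ?_ fun p _ _ =>
          Finset.prod_nonneg fun i _ => pow_nonneg (h0 _) _
        intro p hp
        obtain ⟨α, hα, rfl⟩ := Finset.mem_image.mp hp
        exact Fintype.mem_piFinset.mpr fun i => Finset.mem_range.mpr (Nat.lt_succ_of_le
          ((Finset.le_sup (f := fun j => α j) i.2).trans
            (Finset.le_sup (f := fun α : ι →₀ ℕ => S.sup α) hα)))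
    _ = ∏ i : S, ∑ m ∈ Finset.range (M + 1), x i.1 ^ m := (Finset.prod_univ_sum _ _).symm
    _ ≤ ∏ i : S, Real.exp ((1 - ρ)⁻¹ * x i.1) := by
        refine Finset.prod_le_prod (fun i _ => Finset.sum_nonneg fun m _ => pow_nonneg (h0 _) _)
          fun i _ => ?_
        have hi : x i.1 < 1 := (hxρ _).trans_lt hρ
        refine le_trans ((summable_geometric_of_lt_one (h0 _) hi).sum_le_tsum _
          fun m _ => pow_nonneg (h0 _) _) ?_
        rw [tsum_geometric_of_lt_one (h0 _) hi]
        refine le_trans ?_ (Real.add_one_le_exp _)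
        have h1 : 0 < 1 - x i.1 := by linarith
        calc (1 - x i.1)⁻¹ = (1 - x i.1)⁻¹ * x i.1 + 1 := by field_simp; ring
          _ ≤ (1 - ρ)⁻¹ * x i.1 + 1 := by
              have : (1 - x i.1)⁻¹ ≤ (1 - ρ)⁻¹ := inv_anti₀ (by linarith) (by linarith [hxρ i.1])
              linarith [mul_le_mul_of_nonneg_right this (h0 i.1)]
    _ ≤ Real.exp ((1 - ρ)⁻¹ * ∑' i, x i) := by
        rw [← Real.exp_sum, Real.exp_le_exp, ← Finset.mul_sum]
        refine mul_le_mul_of_nonneg_left ?_ (inv_nonneg.mpr (by linarith))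
        rw [Finset.sum_coe_sort S x]
        exact hx.sum_le_tsum _ fun i _ => h0 i

theorem tsum_finsupp_prod_ne_zero {z : ι → ℂ} {ρ : ℝ} (hρ : ρ < 1) (hzρ : ∀ i, ‖z i‖ ≤ ρ)
    (hz : Summable fun i => ‖z i‖) :
    (Summable fun α : ι →₀ ℕ => ‖α.prod fun i m => z i ^ m‖) ∧
      ∑' α : ι →₀ ℕ, α.prod (fun i m => z i ^ m) ≠ 0 := by
  classical
  let P : (ι →₀ ℕ) → ℂ := fun α => α.prod fun i m => z i ^ m
  have hP : ∀ α, ‖P α‖ = α.prod fun i m => ‖z i‖ ^ m := fun α => by
    simp [P, Finsupp.prod]
  have hsum : Summable fun α => ‖P α‖ :=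
    (summable_finsupp_prod (fun i => norm_nonneg (z i)) hρ hzρ hz).congr fun α => (hP α).symm
  refine ⟨hsum, fun h0 => ?_⟩
  let one' : Finset ι → (ι →₀ ℕ) := fun T => Finsupp.indicator T fun _ _ => 1
  have hone : ∀ T i, one' T i = if i ∈ T then 1 else 0 := fun T i => by
    simp [one', Finsupp.indicator_apply]
  have hsupp : ∀ T, (one' T).support = T := fun T => by
    ext i; simp [hone]
  have hinj : Function.Injective one' := fun T T' h => by rw [← hsupp T, h, hsupp T']
  let g : Finset ι → ℂ := fun T => (-1) ^ T.card * P (one' T)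
  have hg : Summable fun T => ‖g T‖ := (hsum.comp_injective hinj).congr fun T => by simp [g]
  let e : (ι →₀ ℕ) × Finset ι ≃ Σ β : ι →₀ ℕ, β.support.powerset :=
    { toFun := fun a => ⟨a.1 + one' a.2, a.2, Finset.mem_powerset.mpr fun i hi => by
        simp [hone, hi]⟩
      invFun := fun b => (b.1 - one' b.2.1, b.2.1)
      left_inv := fun a => Prod.ext (add_tsub_cancel_right _ _) rfl
      right_inv := fun ⟨β, T, hT⟩ => by
        have hle : one' T ≤ β := fun i => by
          rw [hone]
          split_ifs with hi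
          · exact Nat.one_le_iff_ne_zero.mpr (Finsupp.mem_support_iff.mp (Finset.mem_powerset.mp hT hi))
          · exact Nat.zero_le _
        exact Sigma.subtype_ext (tsub_add_cancel_of_le hle) rfl }
  have hpair : Summable fun a : (ι →₀ ℕ) × Finset ι => P a.1 * g a.2 :=
    summable_mul_of_summable_norm hsum hg
  have h1 : ∑' a : (ι →₀ ℕ) × Finset ι, P a.1 * g a.2 = 0 := by
    rw [← tsum_mul_tsum_of_summable_norm hsum hg, h0, zero_mul]
  have hterm : ∀ b, P (e.symm b).1 * g (e.symm b).2 = (-1) ^ b.2.1.card * P b.1 := fun b => by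
    obtain ⟨a, rfl⟩ := e.surjective b
    rw [e.symm_apply_apply]
    show P a.1 * ((-1) ^ a.2.card * P (one' a.2)) = (-1) ^ a.2.card * P (a.1 + one' a.2)
    have : P (a.1 + one' a.2) = P a.1 * P (one' a.2) :=
      Finsupp.prod_add_index' (fun i => pow_zero _) fun i m n => pow_add _ _ _
    rw [this]
    ring
  have hs2 : Summable fun b => P (e.symm b).1 * g (e.symm b).2 := hpair.comp_injective e.symm.injective
  rw [← e.symm.tsum_eq, hs2.tsum_sigma, tsum_eq_single 0] at h1
  · simp [hterm, P, tsum_fintype] at h1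
  · intro β hβ
    simp only [hterm, tsum_fintype, Finset.univ_eq_attach, tsum_mul_right, ← Finset.sum_mul]
    rw [Finset.sum_attach β.support.powerset fun T => (-1 : ℂ) ^ T.card]
    have : (∑ T ∈ β.support.powerset, (-1 : ℤ) ^ T.card) = 0 :=
      Finset.sum_powerset_neg_one_pow_card_of_nonempty (Finsupp.support_nonempty_iff.mpr hβ)
    have := congrArg (Int.cast : ℤ → ℂ) this
    push_cast at this
    rw [this, zero_mul]

end GrothLib.Zeta
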