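import Groth.Agent.Lib.Zeta.IntScheme
import Groth.Agent.Lib.Zeta.EulerSeries
import Mathlib.Analysis.PSeries
import Groth.Prelude.Def_W4c1zetahwZeta

/-!
The Dirichlet series of a scheme of finite type over the integers.
-/

set_option linter.style.haveILetI false

universe u

open CategoryTheory Limits AlgebraicGeometry

namespace GrothLib.Zeta

theorem charP_of_natCard (F : Type u) [Field F] [Finite F] {p m : ℕ} (hp : p.Prime)
    (h : Nat.card F = p ^ m) : CharP F p := by
  have : Fintype F := Fintype.ofFinite F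
  refine (CharP.charP_iff_prime_eq_zero hp).mpr ?_
  have h0 : ((p ^ m : ℕ) : F) = 0 := by
    rw [← h, Nat.card_eq_fintype_card, Nat.cast_card_eq_zero]
  rw [Nat.cast_pow] at h0
  exact eq_zero_of_pow_eq_zero h0

section Scheme

variable {X : Scheme.{u}} (f : X ⟶ Spec (CommRingCat.of (ULift.{u} ℤ))) [LocallyOfFiniteType f]
  [QuasiCompact f]

/-- The closed points of a scheme. -/
abbrev ClPts (X : Scheme.{u}) : Type u := { x : X // IsClosed ({x} : Set X) }

/-- The norm of a closed point. -/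
noncomputable abbrev ptNorm (x : ClPts X) : ℕ := Nat.card (X.residueField x.1)

include f in
omit [QuasiCompact f] in
theorem two_le_ptNorm (x : ClPts X) : 2 ≤ ptNorm x := by
  have := finite_residueField f x.2
  exact Finite.one_lt_card

include f in
theorem exists_bound_fibre (r : ℕ) (hr : topologicalKrullDim X ≤ r) :
    ∃ c p₀ : ℕ, ∀ n : ℕ, Finite { x : ClPts X // ptNorm x = n } ∧
      (Nat.card { x : ClPts X // ptNorm x = n } * n ≤ c * n ^ r ∨
        ∃ p < p₀, p.Prime ∧ (∃ m, p ^ m = n) ∧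
          Nat.card { x : ClPts X // ptNorm x = n } ≤ c * n ^ r) := by
  classical
  obtain ⟨c, p₀, hc⟩ := exists_bound_hom f r hr
  refine ⟨c, p₀, fun n => ?_⟩
  rcases isEmpty_or_nonempty { x : ClPts X // ptNorm x = n } with hE | ⟨⟨x₀, hx₀⟩⟩
  · exact ⟨inferInstance, Or.inl (by simp)⟩
  haveI := finite_residueField f x₀.2
  letI := Fintype.ofFinite (X.residueField x₀.1)
  obtain ⟨p, hchar⟩ := CharP.exists (X.residueField x₀.1)
  haveI := hchar
  obtain ⟨m, hp, hm⟩ := FiniteField.card (X.residueField x₀.1) p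
  obtain ⟨hfin, h1, h2⟩ := hc p hp (X.residueField x₀.1)
  have e : ∀ x : { x : ClPts X // ptNorm x = n },
      Nonempty (X.residueField x.1.1 ≃+* X.residueField x₀.1) := fun x => by
    haveI := finite_residueField f x.1.2
    letI := Fintype.ofFinite (X.residueField x.1.1)
    exact ⟨FiniteField.ringEquivOfCardEq (by
      rw [← Nat.card_eq_fintype_card, ← Nat.card_eq_fintype_card]; exact x.2.trans hx₀.symm)⟩
  let Ψ : { x : ClPts X // ptNorm x = n } →
      (Spec (CommRingCat.of (X.residueField x₀.1)) ⟶ X) := fun x =>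
    (Scheme.SpecToEquivOfField (X.residueField x₀.1) X).symm
      ⟨x.1.1, CommRingCat.ofHom (e x).some.toRingHom⟩
  have hΨ : Function.Injective Ψ := fun x y h => Subtype.ext (Subtype.ext
    (congrArg Sigma.fst ((Scheme.SpecToEquivOfField _ X).symm.injective h)))
  haveI := Finite.of_injective Ψ hΨ
  have hle := Nat.card_le_card_of_injective Ψ hΨ
  have hn : Nat.card (X.residueField x₀.1) = n := hx₀
  refine ⟨inferInstance, ?_⟩
  rcases le_or_gt p₀ p with h | h
  · refine Or.inl ((Nat.mul_le_mul_right n hle).trans ?_)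
    rw [← hn]
    exact h2 h
  · refine Or.inr ⟨p, h, hp, ⟨m, ?_⟩, hle.trans (hn ▸ h1)⟩
    rw [← hn, Nat.card_eq_fintype_card]
    exact hm.symm

include f in
theorem summable_ptNorm_rpow (r : ℕ) (hr : topologicalKrullDim X ≤ r) (σ : ℝ) (hσ : (r : ℝ) < σ) :
    Summable fun x : ClPts X => (ptNorm x : ℝ) ^ (-σ) := by
  classical
  obtain ⟨c, p₀, hb⟩ := exists_bound_fibre f r hr
  have h0 : ∀ x : ClPts X, 0 ≤ (ptNorm x : ℝ) ^ (-σ) := fun x => Real.rpow_nonneg (Nat.cast_nonneg _) _
  rw [← (Equiv.sigmaFiberEquiv (ptNorm : ClPts X → ℕ)).summable_iff]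
  refine (summable_sigma_of_nonneg fun b => ?_).mpr ⟨fun n => ?_, ?_⟩
  · exact h0 _
  · haveI := (hb n).1
    exact Summable.of_finite
  let P : Finset ℕ := (Finset.range p₀).filter Nat.Prime
  let ind : ℕ → ℕ → ℝ := fun p =>
    (Set.range fun m : ℕ => p ^ m).indicator fun n => (n : ℝ) ^ ((r : ℝ) - σ)
  have hg : Summable fun n : ℕ => (c : ℝ) * ((n : ℝ) ^ ((r : ℝ) - 1 - σ) + ∑ p ∈ P, ind p n) := by
    refine ((Real.summable_nat_rpow.mpr (by linarith)).add (summable_sum fun p hp => ?_)).mul_left _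
    have hp' : p.Prime := (Finset.mem_filter.mp hp).2
    refine ((Nat.pow_right_injective hp'.two_le).summable_iff fun n hn => ?_).mp ?_
    · exact Set.indicator_of_notMem hn _
    · refine (summable_geometric_of_lt_one (Real.rpow_nonneg (Nat.cast_nonneg p) ((r : ℝ) - σ))
        (Real.rpow_lt_one_of_one_lt_of_neg (by exact_mod_cast hp'.one_lt) (by linarith))).congr
          fun m => ?_
      simp only [Function.comp_apply, ind, Set.indicator_of_mem (Set.mem_range_self (f := fun m : ℕ => p ^ m) m)]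
      push_cast
      rw [← Real.rpow_natCast (p : ℝ) m, ← Real.rpow_mul (Nat.cast_nonneg _), mul_comm,
        Real.rpow_mul (Nat.cast_nonneg _), Real.rpow_natCast]
  refine Summable.of_nonneg_of_le (fun n => tsum_nonneg fun b => h0 _) (fun n => ?_) hg
  obtain ⟨hfin, hn⟩ := hb n
  haveI := hfin
  have hval : (∑' b : { x : ClPts X // ptNorm x = n },
      ((fun x : ClPts X => (ptNorm x : ℝ) ^ (-σ)) ∘ Equiv.sigmaFiberEquiv ptNorm) ⟨n, b⟩) =
        (Nat.card { x : ClPts X // ptNorm x = n } : ℝ) * (n : ℝ) ^ (-σ) := by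
    rw [show (fun b : { x : ClPts X // ptNorm x = n } => ((fun x : ClPts X => (ptNorm x : ℝ) ^ (-σ)) ∘
        Equiv.sigmaFiberEquiv ptNorm) ⟨n, b⟩) = fun _ => (n : ℝ) ^ (-σ) from funext fun b => by
      show ((ptNorm b.1 : ℕ) : ℝ) ^ (-σ) = _
      rw [b.2], tsum_const, nsmul_eq_mul]
  rw [hval]
  have hind : ∀ p, 0 ≤ ind p n := fun p =>
    Set.indicator_nonneg (fun i _ => Real.rpow_nonneg (Nat.cast_nonneg i) _) n
  have hcard0 : n = 0 → Nat.card { x : ClPts X // ptNorm x = n } = 0 := fun h => by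
    have : IsEmpty { x : ClPts X // ptNorm x = n } :=
      ⟨fun x => by have := two_le_ptNorm f x.1; have := x.2; omega⟩
    simp
  rcases Nat.eq_zero_or_pos n with rfl | hn0
  · rw [hcard0 rfl]
    simp only [Nat.cast_zero, zero_mul]
    exact mul_nonneg (Nat.cast_nonneg _) (add_nonneg (Real.rpow_nonneg le_rfl _)
      (Finset.sum_nonneg fun p _ => hind p))
  have hnr : (0 : ℝ) < n := by exact_mod_cast hn0
  rcases hn with hn | ⟨p, hp, hpp, ⟨m, hm⟩, hn⟩
  · refine le_trans ?_ (mul_le_mul_of_nonneg_left (le_add_of_nonneg_right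
      (Finset.sum_nonneg fun p _ => hind p)) (Nat.cast_nonneg c))
    have hn' : (Nat.card { x : ClPts X // ptNorm x = n } : ℝ) * n ≤ c * (n : ℝ) ^ r := by
      exact_mod_cast hn
    rw [show (r : ℝ) - 1 - σ = ((r : ℝ) - 1) + -σ by ring, Real.rpow_add hnr, ← mul_assoc,
      Real.rpow_sub hnr, Real.rpow_one, Real.rpow_natCast]
    refine mul_le_mul_of_nonneg_right ?_ (Real.rpow_nonneg hnr.le _)
    rw [← mul_div_assoc, le_div_iff₀ hnr]
    exact hn'
  · refine le_trans ?_ (mul_le_mul_of_nonneg_left (le_add_of_nonneg_left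
      (Real.rpow_nonneg hnr.le _)) (Nat.cast_nonneg c))
    refine le_trans ?_ (mul_le_mul_of_nonneg_left (Finset.single_le_sum (f := fun p => ind p n)
      (fun p _ => hind p) (Finset.mem_filter.mpr ⟨Finset.mem_range.mpr hp, hpp⟩ : p ∈ P))
      (Nat.cast_nonneg c))
    rw [show ind p n = (n : ℝ) ^ ((r : ℝ) - σ) from Set.indicator_of_mem (show n ∈ Set.range _ from ⟨m, hm⟩) _,
      show (r : ℝ) - σ = (r : ℝ) + -σ by ring, Real.rpow_add hnr, ← mul_assoc, Real.rpow_natCast]
    refine mul_le_mul_of_nonneg_right ?_ (Real.rpow_nonneg hnr.le _)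
    exact_mod_cast hn

theorem natCast_finsupp_prod_cpow {ι : Type*} (N : ι → ℕ) (α : ι →₀ ℕ) (s : ℂ) :
    ((α.prod fun i m => N i ^ m : ℕ) : ℂ) ^ s = α.prod fun i m => ((N i : ℂ) ^ s) ^ m := by
  classical
  simp only [Finsupp.prod]
  induction α.support using Finset.induction with
  | empty => simp
  | insert a S ha ih =>
    rw [Finset.prod_insert ha, Finset.prod_insert ha, Nat.cast_mul, Complex.natCast_mul_natCast_cpow,
      ih, Nat.cast_pow, ← Complex.natCast_cpow_natCast_mul, Complex.cpow_nat_mul]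

/-- Effective zero cycles as functions on the closed points. -/
noncomputable def cyclesEquiv (X : Scheme.{u}) (n : ℕ) :
    { α : X →₀ ℕ // (∀ x ∈ α.support, IsClosed ({x} : Set X)) ∧
      α.prod (fun x m => Nat.card (X.residueField x) ^ m) = n } ≃
    { β : ClPts X →₀ ℕ // β.prod (fun x m => ptNorm x ^ m) = n } where
  toFun α := ⟨Finsupp.subtypeDomain (fun x : X => IsClosed ({x} : Set X)) α.1, by
    rw [Finsupp.prod_subtypeDomain_index (h := fun (x : X) m => Nat.card (X.residueField x) ^ m) α.2.1]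
    exact α.2.2⟩
  invFun β := ⟨β.1.embDomain (Function.Embedding.subtype _), fun x hx => by
      rw [Finsupp.support_embDomain] at hx
      obtain ⟨y, -, rfl⟩ := Finset.mem_map.mp hx
      exact y.2, by rw [Finsupp.prod_embDomain]; exact β.2⟩
  left_inv α := Subtype.ext <| Finsupp.ext fun x => by
    by_cases hx : IsClosed ({x} : Set X)
    · exact Finsupp.embDomain_apply_self (Function.Embedding.subtype _) _ (⟨x, hx⟩ : ClPts X)
    · show Finsupp.embDomain _ _ x = α.1 x
      rw [Finsupp.embDomain_of_notMem_range _ _ _ fun ⟨y, hy⟩ => hx (hy ▸ y.2),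
        Finsupp.notMem_support_iff.mp fun h => hx (α.2.1 x h)]
  right_inv β := Subtype.ext <| Finsupp.ext fun x => by
    exact Finsupp.embDomain_apply_self (Function.Embedding.subtype _) β.1 x

include f in
theorem summable_and_ne_zero_int (r : ℕ) (hr : topologicalKrullDim X ≤ r) (s : ℂ) (hs : (r : ℝ) < s.re) :
    LSeriesSummable (_root_.Zeta.arithCoeff X) s ∧ LSeries (_root_.Zeta.arithCoeff X) s ≠ 0 := by
  classical
  set z : ClPts X → ℂ := fun x => ((ptNorm x : ℂ) ^ s)⁻¹ with hz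
  have hnorm : ∀ x, ‖z x‖ = (ptNorm x : ℝ) ^ (-s.re) := fun x => by
    rw [hz, norm_inv, Complex.norm_natCast_cpow_of_pos (by have := two_le_ptNorm f x; omega),
      Real.rpow_neg (Nat.cast_nonneg _)]
  have hs0 : 0 < s.re := lt_of_le_of_lt (Nat.cast_nonneg r) hs
  obtain ⟨hsum, hne⟩ := tsum_finsupp_prod_ne_zero (z := z)
    (Real.rpow_lt_one_of_one_lt_of_neg (by norm_num : (1 : ℝ) < 2) (neg_neg_of_pos hs0))
    (fun x => by
      rw [hnorm]
      exact Real.rpow_le_rpow_of_nonpos (by norm_num) (by exact_mod_cast two_le_ptNorm f x)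
        (neg_nonpos.mpr hs0.le))
    ((summable_ptNorm_rpow f r hr s.re hs).congr fun x => (hnorm x).symm)
  let N : (ClPts X →₀ ℕ) → ℕ := fun α => α.prod fun x m => ptNorm x ^ m
  have hN0 : ∀ α, N α ≠ 0 := fun α =>
    Finset.prod_ne_zero_iff.mpr fun x _ => pow_ne_zero _ (by have := two_le_ptNorm f x; omega)
  have hP : ∀ α : ClPts X →₀ ℕ, α.prod (fun x m => z x ^ m) = ((N α : ℂ) ^ s)⁻¹ := fun α => by
    rw [natCast_finsupp_prod_cpow, Finsupp.prod, Finsupp.prod, ← Finset.prod_inv_distrib]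
    exact Finset.prod_congr rfl fun x _ => inv_pow _ _
  have hsum' : Summable fun α => ((N α : ℂ) ^ s)⁻¹ := hsum.of_norm.congr hP
  have hterm : ∀ n, ∑' b : { α // N α = n }, ((N b.1 : ℂ) ^ s)⁻¹ =
      LSeries.term (_root_.Zeta.arithCoeff X) s n := fun n => by
    rw [show (fun b : { α // N α = n } => ((N b.1 : ℂ) ^ s)⁻¹) = fun _ => ((n : ℂ) ^ s)⁻¹ from
      funext fun b => by rw [b.2], tsum_const, nsmul_eq_mul]
    rcases eq_or_ne n 0 with rfl | hn
    · have : IsEmpty { α // N α = 0 } := ⟨fun b => hN0 b.1 b.2⟩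
      simp [LSeries.term_zero]
    · rw [LSeries.term_of_ne_zero hn, div_eq_mul_inv, _root_.Zeta.arithCoeff,
        _root_.Zeta.cycleNormCount, Nat.card_congr (cyclesEquiv X n)]
  have hσ : HasSum (fun b : Σ n, { α // N α = n } => ((N b.2.1 : ℂ) ^ s)⁻¹)
      (∑' α, ((N α : ℂ) ^ s)⁻¹) := (Equiv.sigmaFiberEquiv N).hasSum_iff.mpr hsum'.hasSum
  have hL : HasSum (LSeries.term (_root_.Zeta.arithCoeff X) s) (∑' α, ((N α : ℂ) ^ s)⁻¹) :=
    hσ.sigma fun n => by
      rw [← hterm n]
      exact (hσ.summable.sigma_factor n).hasSum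
  refine ⟨hL.summable, ?_⟩
  rw [LSeries, hL.tsum_eq, ← tsum_congr hP]
  exact hne

end Scheme

end GrothLib.Zeta
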