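import Groth.Agent.Lib.Zeta.Counting
import Groth.Agent.Lib.Dim.Scheme
import Mathlib.RingTheory.NoetherNormalization

/-!
The trivial bound on the number of points.
-/

set_option linter.style.haveILetI false

universe u

open CategoryTheory Limits AlgebraicGeometry

namespace GrothLib.Zeta

variable {k : Type u} [Field k]

theorem exists_natCard_algHom_le [Finite k] (A : Type u) [CommRing A] [Algebra k A]
    [Algebra.FiniteType k A] (r : ℕ) (hr : ringKrullDim A ≤ r) :
    ∃ c : ℕ, ∀ (k' : Type u) [Field k'] [Algebra k k'] [Finite k'],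
      Nat.card (A →ₐ[k] k') ≤ c * Nat.card k' ^ r := by
  classical
  rcases subsingleton_or_nontrivial A with hA | hA
  · refine ⟨0, fun k' _ _ _ => ?_⟩
    have : IsEmpty (A →ₐ[k] k') := ⟨fun φ => zero_ne_one (α := k') (by
      rw [← map_zero φ, ← map_one φ, Subsingleton.elim (0 : A) 1])⟩
    simp
  obtain ⟨s, g, hinj, hfin⟩ := exists_finite_inj_algHom_of_fg k A
  algebraize [g.toRingHom]
  have : IsScalarTower k (MvPolynomial (Fin s) k) A :=
    IsScalarTower.of_algebraMap_eq fun x => (g.commutes x).symm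
  have : Module.Finite (MvPolynomial (Fin s) k) A := hfin
  have hs : s ≤ r := by
    have h : ringKrullDim A = s := by
      rw [GrothLib.Dim.ringKrullDim_eq_of_isIntegral (R := MvPolynomial (Fin s) k) hinj,
        MvPolynomial.ringKrullDim_of_isNoetherianRing, ringKrullDim_eq_zero_of_field, zero_add,
        Nat.card_fin]
    rw [h] at hr
    exact_mod_cast hr
  obtain ⟨n, π, hπ⟩ := Algebra.FiniteType.iff_quotient_mvPolynomial''.mp
    (inferInstance : Algebra.FiniteType k A)
  choose P hPm hP using fun j : Fin n =>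
    (Algebra.IsIntegral.isIntegral (R := MvPolynomial (Fin s) k) (π (MvPolynomial.X j)) :
      IsIntegral _ _)
  refine ⟨∏ j, (P j).natDegree, fun k' _ _ _ => ?_⟩
  let R : (Fin s → k') → Fin n → Finset k' := fun v j =>
    ((P j).map (MvPolynomial.aeval v : MvPolynomial (Fin s) k →ₐ[k] k').toRingHom).roots.toFinset
  have hR : ∀ v j, (R v j).card ≤ (P j).natDegree := fun v j =>
    (Multiset.toFinset_card_le _).trans
      ((Polynomial.card_roots' _).trans Polynomial.natDegree_map_le)
  have hmem : ∀ φ : A →ₐ[k] k', ∀ j,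
      φ (π (MvPolynomial.X j)) ∈ R (fun i => φ (g (MvPolynomial.X i))) j := by
    intro φ j
    have he : (MvPolynomial.aeval fun i => φ (g (MvPolynomial.X i)) :
        MvPolynomial (Fin s) k →ₐ[k] k') = φ.comp g := MvPolynomial.algHom_ext fun i => by simp
    rw [Multiset.mem_toFinset, Polynomial.mem_roots ((hPm j).map _).ne_zero, he]
    show Polynomial.eval _ _ = 0
    rw [Polynomial.eval_map]
    have h2 := congrArg φ (hP j)
    rw [map_zero, ← AlgHom.coe_toRingHom, Polynomial.hom_eval₂] at h2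
    exact h2
  let F : (A →ₐ[k] k') → Σ v : Fin s → k', ∀ j : Fin n, R v j := fun φ =>
    ⟨fun i => φ (g (MvPolynomial.X i)), fun j => ⟨_, hmem φ j⟩⟩
  have hF : Function.Injective F := fun φ ψ h => by
    have key : ∀ j, φ (π (MvPolynomial.X j)) = ψ (π (MvPolynomial.X j)) := fun j => by
      have := congrArg (fun p : Σ v : Fin s → k', ∀ j : Fin n, R v j => ((p.2 j : k'))) h
      exact this
    refine AlgHom.ext fun a => ?_
    obtain ⟨p, rfl⟩ := hπ a
    exact DFunLike.congr_fun (MvPolynomial.algHom_ext (f := φ.comp π) (g := ψ.comp π) key) p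
  letI := Fintype.ofFinite k'
  refine (Nat.card_le_card_of_injective F hF).trans ?_
  rw [Nat.card_sigma]
  refine (Finset.sum_le_sum (g := fun _ => ∏ j, (P j).natDegree) fun v _ => ?_).trans ?_
  · rw [Nat.card_pi]
    exact Finset.prod_le_prod' fun j _ => by rw [Nat.card_eq_finsetCard]; exact hR v j
  · rw [Finset.sum_const, Finset.card_univ, smul_eq_mul, mul_comm]
    refine Nat.mul_le_mul le_rfl ?_
    rw [Fintype.card_fun, Fintype.card_fin, ← Nat.card_eq_fintype_card]
    exact Nat.pow_le_pow_right Nat.card_pos hs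

theorem exists_pointCount_le [Finite k] {X : Scheme.{u}} (f : X ⟶ Spec (CommRingCat.of k))
    [LocallyOfFiniteType f] [QuasiCompact f] (r : ℕ) (hr : topologicalKrullDim X ≤ r) :
    ∃ c : ℕ, ∀ (k' : Type u) [Field k'] [Algebra k k'] [Finite k'],
      SgaExt.pointCount f k' ≤ c * Nat.card k' ^ r := by
  classical
  have : CompactSpace X := QuasiCompact.compactSpace_of_compactSpace f
  obtain ⟨S, hS⟩ := isCompact_univ.elim_finite_subcover
    (fun U : X.affineOpens => ((U : X.Opens) : Set X)) (fun U => (U : X.Opens).2)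
    (fun x _ => by
      obtain ⟨_, ⟨U, hU, rfl⟩, hxU, -⟩ :=
        X.isBasis_affineOpens.exists_subset_of_mem_open (Set.mem_univ x) isOpen_univ
      exact Set.mem_iUnion.mpr ⟨⟨U, hU⟩, hxU⟩)
  choose ψ hft hψ using fun U : X.affineOpens => GrothLib.Dim.exists_finiteType_specMap f U.2
  have hb : ∀ U : X.affineOpens, ∃ c : ℕ, ∀ (k' : Type u) [Field k'] [Algebra k k'] [Finite k'],
      letI := (ψ U).hom.toAlgebra
      Nat.card (Γ(X, (U : X.Opens)) →ₐ[k] k') ≤ c * Nat.card k' ^ r := by
    intro U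
    letI := (ψ U).hom.toAlgebra
    have : Algebra.FiniteType k Γ(X, (U : X.Opens)) := hft U
    refine exists_natCard_algHom_le _ r ?_
    rw [← GrothLib.Dim.topologicalKrullDim_affineOpen U.2]
    exact le_trans (Topology.IsInducing.subtypeVal.topologicalKrullDim_le) hr
  choose c hc using hb
  refine ⟨∑ U ∈ S, c U, fun k' _ _ _ => ?_⟩
  letI : ∀ U : X.affineOpens, Algebra k Γ(X, (U : X.Opens)) := fun U => (ψ U).hom.toAlgebra
  haveI : ∀ U : X.affineOpens, Algebra.FiniteType k Γ(X, (U : X.Opens)) := hft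
  haveI : ∀ U : X.affineOpens, Finite (Γ(X, (U : X.Opens)) →ₐ[k] k') := fun U => by
    obtain ⟨n, π, hπ⟩ := Algebra.FiniteType.iff_quotient_mvPolynomial''.mp (hft U)
    exact Finite.of_injective (fun φ (j : Fin n) => φ (π (MvPolynomial.X j))) fun φ φ' h =>
      AlgHom.ext fun a => by
        obtain ⟨p, rfl⟩ := hπ a
        exact DFunLike.congr_fun (MvPolynomial.algHom_ext (f := φ.comp π) (g := φ'.comp π)
          fun j => congrFun h j) p
  let G : (Σ U : S, (Γ(X, ((U.1 : X.affineOpens) : X.Opens)) →ₐ[k] k')) → Pts f k' := fun s =>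
    ⟨Spec.map (CommRingCat.ofHom s.2.toRingHom) ≫ s.1.1.2.fromSpec, by
      rw [Category.assoc, hψ, ← Spec.map_comp]
      exact congrArg Spec.map (CommRingCat.hom_ext s.2.comp_algebraMap)⟩
  have hG : Function.Surjective G := by
    rintro ⟨g, hg⟩
    obtain ⟨U, hUS, hgU⟩ := Set.mem_iUnion₂.mp (hS (Set.mem_univ (g default)))
    have hr' : Set.range g ⊆ Set.range U.2.fromSpec := by
      rintro _ ⟨z, rfl⟩
      rw [Subsingleton.elim z default, U.2.range_fromSpec]
      exact hgU
    have : IsOpenImmersion U.2.fromSpec := U.2.isOpenImmersion_fromSpec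
    obtain ⟨φ, hφ⟩ : ∃ φ, Spec.map φ = IsOpenImmersion.lift _ g hr' := ⟨_, Spec.map_preimage _⟩
    have hgφ : Spec.map φ ≫ U.2.fromSpec = g := by rw [hφ, IsOpenImmersion.lift_fac]
    refine ⟨⟨⟨U, hUS⟩, ⟨φ.hom, fun a => ?_⟩⟩, Subtype.ext hgφ⟩
    have h := hg
    rw [← hgφ, Category.assoc, hψ, ← Spec.map_comp, Spec.map_inj] at h
    exact DFunLike.congr_fun (congrArg CommRingCat.Hom.hom h) a
  refine (Nat.card_le_card_of_surjective G hG).trans ?_
  rw [Nat.card_sigma, Finset.sum_mul, ← Finset.sum_coe_sort S (fun U => c U * Nat.card k' ^ r)]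
  exact Finset.sum_le_sum fun (U : S) _ => hc U.1 k'

end GrothLib.Zeta
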