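import Groth.Prelude.Def_FinFr
import Groth.Agent.Lib.Zeta.Frobenius
import Mathlib.RingTheory.Nakayama
import Mathlib.AlgebraicGeometry.Noetherian

/-!
The scheme of fixed points of Frobenius over an algebraically closed field.
-/

set_option linter.style.haveILetI false

universe u

open CategoryTheory Limits AlgebraicGeometry

namespace GrothLib.Zeta

variable {k₀ : Type u} [Field k₀] [Finite k₀] {k : Type u} [Field k] [IsAlgClosed k] [Algebra k₀ k]
  {X₀ : Scheme.{u}} {f : X₀ ⟶ Spec (CommRingCat.of k₀)}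
  {FX : X₀ ⟶ X₀} {hle : ∀ U : X₀.Opens, U ≤ FX ⁻¹ᵁ U}
  (hFapp : ∀ (U : X₀.Opens) (s : Γ(X₀, U)), (FX.appLE U U (hle U)).hom s = s ^ Nat.card k₀)
  {X : Scheme.{u}} {g : X ⟶ Spec (CommRingCat.of k)} {π : X ⟶ X₀}
  (hπ : IsPullback π g f (Spec.map (CommRingCat.ofHom (algebraMap k₀ k))))
  {F : X ⟶ X} (hF : F ≫ π = π ≫ FX)
  {Z : Scheme.{u}} {e : Z ⟶ X} [Mono e] [LocallyOfFiniteType e]
  (he : e ≫ F = e)
  (hZ : ∀ (t : Spec (CommRingCat.of k) ⟶ X), t ≫ F = t → ∃ t', t' ≫ e = t)
  (hg : F ≫ g = g)

include hFapp hπ hF he hZ hg in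
theorem isField_stalk_and_isClosed [LocallyOfFiniteType g] (z : Z) :
    _root_.IsReduced (Z.presheaf.stalk z) ∧ IsClosed ({z} : Set Z) := by
  set h := e ≫ g with hh
  set u := e ≫ π with hu
  have hfix : u ≫ FX = u := by rw [hu, Category.assoc, ← hF, ← Category.assoc, he]
  -- the residue field is that of a rational point
  letI algL : Algebra k₀ (Z.residueField z) :=
    ((GrothLib.AffDom.toRes h z).comp (algebraMap k₀ k)).toAlgebra
  obtain ⟨⟨x, φ⟩, hxφ⟩ := (Scheme.SpecToEquivOfField (Z.residueField z) X₀).symm.surjective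
    (Z.fromSpecResidueField z ≫ u)
  change Spec.map φ ≫ X₀.fromSpecResidueField x = _ at hxφ
  have hfix1 : iterHom FX 1 = FX := by rw [iterHom, iterHom, Category.id_comp]
  have hφ : ∀ a, φ.hom a ^ Nat.card k₀ = φ.hom a := by
    have h1 := comp_iterFrobenius_field FX hle hFapp (L := Z.residueField z)
      (Z.fromSpecResidueField z ≫ u) 1
    rw [hfix1, Category.assoc, hfix, ← hxφ] at h1
    replace h1 := (cancel_mono (X₀.fromSpecResidueField x)).1 (h1.trans (Category.assoc _ _ _).symm)
    have h2 := Spec.map_injective (h1.trans (Spec.map_comp _ _).symm)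
    intro a
    have h3 := DFunLike.congr_fun (congrArg CommRingCat.Hom.hom h2) a
    simpa [fr_apply] using h3.symm
  letI : Algebra k (Z.residueField z) := (GrothLib.AffDom.toRes h z).toAlgebra
  have hmem : ∀ a, φ.hom a ∈ (GrothLib.AffDom.toRes h z).range := by
    intro a
    have hint : IsIntegral k (φ.hom a) := by
      refine ⟨Polynomial.X ^ Nat.card k₀ - Polynomial.X, Polynomial.monic_X_pow_sub
        (by rw [Polynomial.degree_X]; exact_mod_cast Finite.one_lt_card), ?_⟩
      simp [hφ]
    obtain ⟨c, hc⟩ := minpoly.mem_range_of_degree_eq_one k (φ.hom a)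
      (IsAlgClosed.degree_eq_one_of_irreducible k (minpoly.irreducible hint))
    exact ⟨c, hc⟩
  let ι := GrothLib.AffDom.toRes h z
  have hι : Function.Injective ι := RingHom.injective _
  let φ₀ : X₀.residueField x →+* k :=
    (RingEquiv.ofBijective ι.rangeRestrict ⟨fun a b hab => hι (congrArg Subtype.val hab),
      ι.rangeRestrict_surjective⟩).symm.toRingHom.comp (φ.hom.codRestrict _ hmem)
  have hφ₀ : ∀ a, ι (φ₀ a) = φ.hom a := fun a =>
    congrArg Subtype.val (RingEquiv.apply_symm_apply (RingEquiv.ofBijective ι.rangeRestrict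
      ⟨fun a b hab => hι (congrArg Subtype.val hab), ι.rangeRestrict_surjective⟩)
      (φ.hom.codRestrict _ hmem a))
  have hcomp : Spec.map (CommRingCat.ofHom ι) ≫
      Spec.map (CommRingCat.ofHom φ₀) ≫ X₀.fromSpecResidueField x = Z.fromSpecResidueField z ≫ u := by
    rw [← hxφ, ← Spec.map_comp_assoc]
    exact congrArg (fun t => Spec.map t ≫ X₀.fromSpecResidueField x)
      (CommRingCat.hom_ext (RingHom.ext hφ₀))
  have hb : Spec.map (CommRingCat.ofHom ι) = Z.fromSpecResidueField z ≫ h :=
    GrothLib.AffDom.SpecMap_toRes h z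
  have hs₀ : (Spec.map (CommRingCat.ofHom φ₀) ≫ X₀.fromSpecResidueField x) ≫ f =
      𝟙 _ ≫ Spec.map (CommRingCat.ofHom (algebraMap k₀ k)) := by
    obtain ⟨a, ha⟩ : ∃ a, Spec.map a =
        (Spec.map (CommRingCat.ofHom φ₀) ≫ X₀.fromSpecResidueField x) ≫ f := ⟨_, Spec.map_preimage _⟩
    rw [← ha, Category.id_comp]
    refine congrArg Spec.map (CommRingCat.hom_ext (RingHom.ext fun c => hι ?_))
    have h1 : Spec.map (CommRingCat.ofHom ι) ≫ Spec.map a =
        Spec.map (CommRingCat.ofHom ι) ≫ Spec.map (CommRingCat.ofHom (algebraMap k₀ k)) := by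
      rw [ha, ← Category.assoc, hcomp, hb, hu, hh]
      simp only [Category.assoc, hπ.w]
    have h2 := Spec.map_injective ((Spec.map_comp _ _).trans (h1.trans (Spec.map_comp _ _).symm))
    exact DFunLike.congr_fun (congrArg CommRingCat.Hom.hom h2) c
  obtain ⟨s, hs1, hs2⟩ : ∃ s, s ≫ π = Spec.map (CommRingCat.ofHom φ₀) ≫ X₀.fromSpecResidueField x ∧
      s ≫ g = 𝟙 _ := ⟨hπ.lift _ _ hs₀, hπ.lift_fst _ _ _, hπ.lift_snd _ _ _⟩
  have hιs : Spec.map (CommRingCat.ofHom ι) ≫ s = Z.fromSpecResidueField z ≫ e := by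
    refine hπ.hom_ext ?_ ?_
    · rw [Category.assoc, hs1, hcomp, hu, Category.assoc]
    · rw [Category.assoc, hs2, Category.comp_id, hb, hh, Category.assoc]
  have hsF : s ≫ F = s := by
    refine hπ.hom_ext ?_ (by rw [Category.assoc, hg])
    have hfrob := comp_iterFrobenius_field FX hle hFapp (L := k) (s ≫ π) 1
    rw [hfix1] at hfrob
    rw [Category.assoc, hF, ← Category.assoc, hfrob, hs1, ← Spec.map_comp_assoc]
    refine congrArg (fun t => Spec.map t ≫ X₀.fromSpecResidueField x)
      (CommRingCat.hom_ext (RingHom.ext fun a => hι ?_))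
    show ι (fr k₀ k 1 (φ₀ a)) = ι (φ₀ a)
    rw [fr_apply, pow_one, map_pow, hφ₀, hφ]
  obtain ⟨s', hs'⟩ := hZ s hsF
  have hιs' : Spec.map (CommRingCat.ofHom ι) ≫ s' = Z.fromSpecResidueField z := by
    rw [← cancel_mono e, Category.assoc, hs', hιs]
  have hsurj : Function.Surjective ι := by
    obtain ⟨⟨z', φ'⟩, hz'⟩ := (Scheme.SpecToEquivOfField k Z).symm.surjective s'
    change Spec.map φ' ≫ Z.fromSpecResidueField z' = s' at hz'
    have hz : z' = z := by
      have h1 := congrArg (fun t => t.base (default : ↥(Spec (Z.residueField z)))) hιs'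
      rw [← hz'] at h1
      simp at h1
      exact h1.trans (Scheme.fromSpecResidueField_apply _ _)
    subst hz
    have h1 : Spec.map (φ' ≫ CommRingCat.ofHom ι) = Spec.map (𝟙 _) := by
      rw [← cancel_mono (Z.fromSpecResidueField z'), Spec.map_comp, Category.assoc, hz', hιs',
        Spec.map_id]
      exact (Category.id_comp _).symm
    intro y
    exact ⟨φ'.hom y, DFunLike.congr_fun (congrArg CommRingCat.Hom.hom (Spec.map_injective h1)) y⟩
  haveI : LocallyOfFiniteType h := by rw [hh]; infer_instance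
  refine ⟨?_, (isClosed_iff_finite h z).mpr
    (Module.Finite.of_surjective (Algebra.linearMap k (Z.residueField z)) hsurj)⟩
  -- the stalk is a field
  haveI : IsLocallyNoetherian Z := LocallyOfFiniteType.isLocallyNoetherian h
  set A := Z.presheaf.stalk z
  set M := IsLocalRing.maximalIdeal A with hM
  have hM0 : M ≤ M • M := by
    set J := M ^ 2 with hJ
    have hJM : J ≤ M := Ideal.pow_le_self two_ne_zero
    have hJtop : J ≠ ⊤ := fun ht =>
      (IsLocalRing.maximalIdeal.isMaximal _).ne_top (top_le_iff.1 (ht ▸ hJM))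
    haveI : Nontrivial (A ⧸ J) := Ideal.Quotient.nontrivial_iff.mpr hJtop
    haveI : IsLocalRing (A ⧸ J) :=
      IsLocalRing.of_surjective' (Ideal.Quotient.mk J) Ideal.Quotient.mk_surjective
    let mk := Ideal.Quotient.mk J
    let res₀ : A →+* k :=
      (RingEquiv.ofBijective ι ⟨hι, hsurj⟩).symm.toRingHom.comp (Z.residue z).hom
    have hres₀ : ∀ a ∈ M, res₀ a = 0 := fun a ha => by
      show _ = _
      rw [RingHom.comp_apply, show (Z.residue z).hom a = 0 from
        (IsLocalRing.residue_eq_zero_iff a).mpr ha, map_zero]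
    let c : A ⧸ J →+* k := Ideal.Quotient.lift J res₀ fun a ha => hres₀ a (hJM ha)
    obtain ⟨α, hα⟩ : ∃ α, Spec.map α = Z.fromSpecStalk z ≫ h := ⟨_, Spec.map_preimage _⟩
    let aB : k →+* A ⧸ J := mk.comp α.hom
    letI : Algebra k₀ (A ⧸ J) := (aB.comp (algebraMap k₀ k)).toAlgebra
    have hresα : ∀ a, res₀ (α.hom a) = a := by
      intro a
      have e : α ≫ Z.residue z = CommRingCat.ofHom ι := by
        apply Spec.map_injective
        rw [Spec.map_comp, hα, hb, ← Category.assoc]
        rfl
      have e' := DFunLike.congr_fun (congrArg CommRingCat.Hom.hom e) a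
      show (RingEquiv.ofBijective ι ⟨hι, hsurj⟩).symm ((Z.residue z).hom (α.hom a)) = a
      rw [RingEquiv.symm_apply_eq]
      exact e'
    have hfr : fr k₀ (A ⧸ J) 1 = (aB.comp (fr k₀ k 1)).comp c := by
      refine RingHom.ext fun b => ?_
      obtain ⟨a, rfl⟩ := Ideal.Quotient.mk_surjective b
      set a' := a - α.hom (res₀ a) with ha'
      have ha'M : a' ∈ M := by
        rw [hM, IsLocalRing.mem_maximalIdeal]
        intro hu
        exact (hu.map res₀).ne_zero (by rw [ha', map_sub, hresα, sub_self])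
      have ha'Q : fr k₀ (A ⧸ J) 1 (mk a') = 0 := by
        rw [fr_apply, pow_one, ← map_pow, Ideal.Quotient.eq_zero_iff_mem]
        exact Ideal.pow_le_pow_right Finite.one_lt_card (Ideal.pow_mem_pow ha'M _)
      rw [show mk a = mk a' + aB (res₀ a) by rw [ha', map_sub]; exact (sub_add_cancel _ _).symm,
        map_add, ha'Q, zero_add]
      show _ = aB (fr k₀ k 1 (c (mk a' + aB (res₀ a))))
      rw [map_add c, show c (mk a') = 0 from hres₀ a' ha'M,
        show c (aB (res₀ a)) = res₀ a from hresα _, zero_add, fr_apply, fr_apply, map_pow]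
    obtain ⟨t, htdef⟩ : ∃ t, t = Spec.map (CommRingCat.ofHom mk) ≫ Z.fromSpecStalk z := ⟨_, rfl⟩
    have htres : Spec.map (CommRingCat.ofHom c) ≫ t = s' := by
      have h1 : Spec.map (CommRingCat.ofHom ι) ≫ Spec.map (CommRingCat.ofHom c) ≫ t =
          Z.fromSpecResidueField z := by
        rw [htdef, ← Spec.map_comp_assoc, ← Spec.map_comp_assoc]
        refine congrArg (fun v => Spec.map v ≫ Z.fromSpecStalk z)
          (CommRingCat.hom_ext (RingHom.ext fun a => ?_))
        exact (RingEquiv.ofBijective ι ⟨hι, hsurj⟩).apply_symm_apply _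
      haveI : IsIso (Spec.map (CommRingCat.ofHom ι)) := by
        haveI : IsIso (CommRingCat.ofHom ι) :=
          (ConcreteCategory.isIso_iff_bijective _).mpr ⟨hι, hsurj⟩
        infer_instance
      rw [← cancel_epi (Spec.map (CommRingCat.ofHom ι)), h1, hιs']
    have haB : t ≫ h = Spec.map (CommRingCat.ofHom aB) := by
      rw [htdef, Category.assoc, ← hα, ← Spec.map_comp]
      rfl
    have hπt : (t ≫ e) ≫ π = (Spec.map (CommRingCat.ofHom aB) ≫ s) ≫ π := by
      calc (t ≫ e) ≫ π = (t ≫ u) ≫ FX := by rw [Category.assoc, Category.assoc, hfix, hu]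
        _ = Spec.map (CommRingCat.ofHom (fr k₀ (A ⧸ J) 1)) ≫ t ≫ u := by
          rw [← comp_iterFrobenius FX hle hFapp (t ≫ u) 1, hfix1]
        _ = Spec.map (CommRingCat.ofHom aB) ≫ Spec.map (CommRingCat.ofHom (fr k₀ k 1)) ≫
            s' ≫ u := by
          rw [hfr, CommRingCat.ofHom_comp, CommRingCat.ofHom_comp, Spec.map_comp, Spec.map_comp,
            ← htres]
          simp only [Category.assoc]
        _ = (Spec.map (CommRingCat.ofHom aB) ≫ s) ≫ π := by
          rw [← comp_iterFrobenius FX hle hFapp (s' ≫ u) 1, hfix1, Category.assoc, hfix, hu,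
            ← Category.assoc s' e π, hs', Category.assoc]
    have e1 : t ≫ e = Spec.map (CommRingCat.ofHom aB) ≫ s := hπ.hom_ext hπt
      (by rw [Category.assoc, Category.assoc, hs2, Category.comp_id, ← hh, haB])
    have e2 : t = Spec.map (CommRingCat.ofHom aB) ≫ Spec.map (CommRingCat.ofHom c) ≫ t := by
      rw [htres, ← cancel_mono e, e1, Category.assoc, hs']
    rw [htdef, ← Spec.map_comp_assoc, ← Spec.map_comp_assoc, cancel_mono, Spec.map_inj] at e2
    intro a ha
    have h1 := DFunLike.congr_fun (congrArg CommRingCat.Hom.hom e2) a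
    change mk a = aB (c (mk a)) at h1
    rw [show c (mk a) = 0 from hres₀ a ha, map_zero, Ideal.Quotient.eq_zero_iff_mem] at h1
    rwa [hJ, sq, ← smul_eq_mul] at h1
  have hbot : M = ⊥ := Submodule.eq_bot_of_le_smul_of_le_jacobson_bot M M
    (IsNoetherian.noetherian M) hM0 (IsLocalRing.maximalIdeal_le_jacobson _)
  letI := (IsLocalRing.isField_iff_maximalIdeal_eq.mpr hbot).toField
  infer_instance

include hπ hFapp hF hg in
theorem isReduced_fixScheme [LocallyOfFiniteType f] :
    IsReduced (FinFr.fixScheme g F hg) ∧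
      (QuasiCompact f → Finite ↥(FinFr.fixScheme g F hg)) := by
  haveI : LocallyOfFiniteType g := MorphismProperty.of_isPullback hπ ‹_›
  set gr : X ⟶ pullback g g := pullback.lift (𝟙 X) F (by rw [hg, Category.id_comp]) with hgr
  set dg : X ⟶ pullback g g := pullback.lift (𝟙 X) (𝟙 X) rfl with hdg
  haveI : IsImmersion dg := inferInstanceAs (IsImmersion (pullback.diagonal g))
  set Z := FinFr.fixScheme g F hg
  let e : Z ⟶ X := pullback.fst gr dg
  haveI : IsImmersion e := inferInstanceAs (IsImmersion (pullback.fst gr dg))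
  have h1 := congrArg (· ≫ pullback.fst g g) (pullback.condition (f := gr) (g := dg))
  have h2 := congrArg (· ≫ pullback.snd g g) (pullback.condition (f := gr) (g := dg))
  simp only [hgr, hdg, Category.assoc, pullback.lift_fst, pullback.lift_snd, Category.comp_id] at h1 h2
  have he : e ≫ F = e := h2.trans h1.symm
  have hZ : ∀ (t : Spec (CommRingCat.of k) ⟶ X), t ≫ F = t → ∃ t', t' ≫ e = t := fun t ht =>
    ⟨pullback.lift t t (pullback.hom_ext
      (by rw [Category.assoc, Category.assoc, pullback.lift_fst, pullback.lift_fst])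
      (by rw [Category.assoc, Category.assoc, pullback.lift_snd, pullback.lift_snd, ht,
        Category.comp_id])),
      pullback.lift_fst _ _ _⟩
  have key := isField_stalk_and_isClosed hFapp hπ hF (e := e) he hZ hg
  haveI : ∀ z : Z, _root_.IsReduced (Z.presheaf.stalk z) := fun z => (key z).1
  refine ⟨isReduced_of_isReduced_stalk _, fun hqc => ?_⟩
  haveI : QuasiCompact g := MorphismProperty.of_isPullback hπ hqc
  haveI : CompactSpace X := QuasiCompact.compactSpace_of_compactSpace g
  haveI : IsLocallyNoetherian X := LocallyOfFiniteType.isLocallyNoetherian g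
  haveI : IsNoetherian X := ⟨⟩
  haveI : TopologicalSpace.NoetherianSpace Z := e.isEmbedding.isInducing.noetherianSpace
  obtain ⟨S, hS, hSc, hSi, hSu⟩ :=
    TopologicalSpace.NoetherianSpace.exists_finite_set_isClosed_irreducible
      (isClosed_univ (X := Z))
  refine Set.finite_univ_iff.mp ?_
  rw [hSu]
  refine hS.sUnion fun t ht => ?_
  obtain ⟨z, hz⟩ := QuasiSober.sober (hSi t ht) (hSc t ht)
  rw [← hz.def, (key z).2.closure_eq]
  exact Set.finite_singleton z

end GrothLib.Zeta
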