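import Groth.Agent.Lib.WeilCoh.Frobenius
import Groth.Agent.Lib.Zeta.Frobenius
import Mathlib.AlgebraicGeometry.PullbackCarrier
import Mathlib.AlgebraicGeometry.Morphisms.Integral
import Mathlib.FieldTheory.IsAlgClosed.AlgebraicClosure

/-!
Fibres of the projection from the base change to an algebraic closure.
-/

set_option linter.style.haveILetI false

universe u

open CategoryTheory Limits AlgebraicGeometry

namespace GrothLib.Zeta

open GrothLib.AffDom

variable {k : Type u} [Field k] {K : Type u} [Field K] [IsAlgClosed K] [Algebra k K]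
  [Algebra.IsAlgebraic k K]
  {X₀ : Scheme.{u}} {f : X₀ ⟶ Spec (CommRingCat.of k)} {X : Scheme.{u}}
  {g : X ⟶ Spec (CommRingCat.of K)} {π : X ⟶ X₀}
  (hπ : IsPullback π g f (Spec.map (CommRingCat.ofHom (algebraMap k K))))

omit [IsAlgClosed K] in
include hπ in
theorem isClosedMap_proj : IsClosedMap π := by
  haveI : IsIntegralHom (Spec.map (CommRingCat.ofHom (algebraMap k K))) :=
    IsIntegralHom.SpecMap_iff.mpr (algebraMap_isIntegral_iff.mpr inferInstance)
  haveI : IsIntegralHom π := MorphismProperty.of_isPullback hπ.flip ‹_›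
  exact π.isClosedMap

include hπ in
theorem toRes_surjective_of_isClosed_image [LocallyOfFiniteType f] (w : X)
    (hw : IsClosed ({π w} : Set X₀)) : Function.Surjective (toRes g w) := by
  letI algK : Algebra K (X.residueField w) := (toRes g w).toAlgebra
  letI alg0 : Algebra k (X₀.residueField (π w)) := (toRes f (π w)).toAlgebra
  letI algk : Algebra k (X.residueField w) := ((toRes g w).comp (algebraMap k K)).toAlgebra
  haveI : IsScalarTower k K (X.residueField w) := .of_algebraMap_eq fun _ => rfl
  haveI : Module.Finite k (X₀.residueField (π w)) := (isClosed_iff_finite f (π w)).mp hw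
  have hcompat : ∀ c, π.residueFieldMap w (algebraMap k (X₀.residueField (π w)) c) =
      algebraMap k (X.residueField w) c := by
    intro c
    have e : CommRingCat.ofHom (toRes f (π w)) ≫ π.residueFieldMap w =
        CommRingCat.ofHom (algebraMap k K) ≫ CommRingCat.ofHom (toRes g w) := by
      apply Spec.map_injective
      rw [Spec.map_comp, Spec.map_comp, SpecMap_toRes, SpecMap_toRes,
        Scheme.Hom.SpecMap_residueFieldMap_fromSpecResidueField_assoc, hπ.w, Category.assoc]
    exact DFunLike.congr_fun (congrArg CommRingCat.Hom.hom e) c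
  let ψ : X₀.residueField (π w) →ₐ[k] X.residueField w :=
    { (π.residueFieldMap w).hom with commutes' := hcompat }
  have hmem : ∀ a, π.residueFieldMap w a ∈ (toRes g w).fieldRange := by
    intro a
    have hint : IsIntegral K (ψ a) := ((Algebra.IsIntegral.isIntegral (R := k) a).map ψ).tower_top
    obtain ⟨c, hc⟩ := minpoly.mem_range_of_degree_eq_one K (ψ a)
      (IsAlgClosed.degree_eq_one_of_irreducible K (minpoly.irreducible hint))
    exact ⟨c, hc⟩
  have htop := GrothLib.WeilCoh.residueField_eq_top hπ w (toRes g w).fieldRange hmem fun c => ⟨c, rfl⟩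
  intro y
  obtain ⟨c, hc⟩ : y ∈ (toRes g w).fieldRange := htop ▸ trivial
  exact ⟨c, hc⟩

include hπ in
theorem isClosed_of_isClosed_image [LocallyOfFiniteType f] (w : X)
    (hw : IsClosed ({π w} : Set X₀)) : IsClosed ({w} : Set X) := by
  haveI : LocallyOfFiniteType g := MorphismProperty.of_isPullback hπ ‹_›
  letI := (toRes g w).toAlgebra
  exact (isClosed_iff_finite g w).mpr
    (Module.Finite.of_surjective (Algebra.linearMap K (X.residueField w))
      (toRes_surjective_of_isClosed_image hπ w hw))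

include hπ in
/-- A point over a closed point comes from a `K`-point. -/
theorem exists_section [LocallyOfFiniteType f] (w : X) (hw : IsClosed ({π w} : Set X₀)) :
    ∃ s : Spec (CommRingCat.of K) ⟶ X, s ≫ g = 𝟙 _ ∧ s default = w := by
  let e := RingEquiv.ofBijective (toRes g w) ⟨RingHom.injective _,
    toRes_surjective_of_isClosed_image hπ w hw⟩
  refine ⟨Spec.map (CommRingCat.ofHom e.symm.toRingHom) ≫ X.fromSpecResidueField w, ?_,
    (Scheme.Hom.comp_apply _ _ _).trans (Scheme.fromSpecResidueField_apply _ _)⟩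
  rw [Category.assoc, ← SpecMap_toRes, ← Spec.map_comp, ← Spec.map_id]
  exact congrArg Spec.map (CommRingCat.hom_ext (RingHom.ext fun a => e.symm_apply_apply a))

include hπ in
/-- The points over a closed point are the embeddings of its residue field. -/
theorem natCard_fibre [LocallyOfFiniteType f] (x : X₀) (hx : IsClosed ({x} : Set X₀)) :
    Nat.card {w : X // π w = x} =
      (letI := (toRes f x).toAlgebra; Nat.card (X₀.residueField x →ₐ[k] K)) := by
  letI := (toRes f x).toAlgebra
  have hcond : ∀ φ : X₀.residueField x →ₐ[k] K,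
      (Spec.map (CommRingCat.ofHom φ.toRingHom) ≫ X₀.fromSpecResidueField x) ≫ f =
        𝟙 _ ≫ Spec.map (CommRingCat.ofHom (algebraMap k K)) := fun φ => by
    rw [Category.assoc, ← SpecMap_toRes, ← Spec.map_comp, Category.id_comp]
    exact congrArg Spec.map (CommRingCat.hom_ext φ.comp_algebraMap)
  let sec : (X₀.residueField x →ₐ[k] K) → (Spec (CommRingCat.of K) ⟶ X) := fun φ =>
    hπ.lift _ _ (hcond φ)
  have hsec1 : ∀ φ, sec φ ≫ π = Spec.map (CommRingCat.ofHom φ.toRingHom) ≫ X₀.fromSpecResidueField x :=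
    fun φ => hπ.lift_fst _ _ _
  have hsec2 : ∀ φ, sec φ ≫ g = 𝟙 _ := fun φ => hπ.lift_snd _ _ _
  have hpt : ∀ φ, π (sec φ default) = x := fun φ => by
    rw [← Scheme.Hom.comp_apply, hsec1, Scheme.Hom.comp_apply, Scheme.fromSpecResidueField_apply]
  symm
  refine Nat.card_eq_of_bijective (fun φ => ⟨sec φ default, hpt φ⟩) ⟨fun φ φ' h => ?_, ?_⟩
  · have hw : IsClosed ({π (sec φ default)} : Set X₀) := by rw [hpt]; exact hx
    have h' : sec φ default = sec φ' default := congrArg Subtype.val h
    have hsurj := toRes_surjective_of_isClosed_image hπ _ hw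
    let s₁ : Pts g K := ⟨sec φ, (hsec2 φ).trans (by simp)⟩
    let s₂ : Pts g K := ⟨sec φ', (hsec2 φ').trans (by simp)⟩
    have e1 : ∀ s : Pts g K, (ptsEquiv g K s).1 = s.1 default := fun s =>
      congrArg s.1 (Subsingleton.elim _ _)
    have e : ptsEquiv g K s₁ = ptsEquiv g K s₂ := by
      have h1 : (ptsEquiv g K s₁).1 = (ptsEquiv g K s₂).1 := by rw [e1, e1]; exact h'
      have h2 : Function.Surjective (toRes g (ptsEquiv g K s₁).1) := by rw [e1]; exact hsurj
      generalize ptsEquiv g K s₁ = a at h1 h2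
      generalize ptsEquiv g K s₂ = b at h1
      obtain ⟨y, ψ⟩ := a
      obtain ⟨y', ψ'⟩ := b
      dsimp only at h1 h2
      subst h1
      letI := (toRes g y).toAlgebra
      refine congrArg (Sigma.mk y) (show (ψ : X.residueField y →ₐ[K] K) = ψ' from
        AlgHom.ext fun a => ?_)
      obtain ⟨c, rfl⟩ := h2 a
      exact ((ψ : X.residueField y →ₐ[K] K).commutes c).trans
        ((ψ' : X.residueField y →ₐ[K] K).commutes c).symm
    have e' : sec φ = sec φ' := congrArg Subtype.val ((ptsEquiv g K).injective e)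
    have e2 := congrArg (· ≫ π) e'
    simp only [hsec1, cancel_mono, Spec.map_inj] at e2
    exact AlgHom.ext fun a => DFunLike.congr_fun (congrArg CommRingCat.Hom.hom e2) a
  · rintro ⟨w, rfl⟩
    obtain ⟨s, hs, rfl⟩ := exists_section hπ w hx
    obtain ⟨⟨y, φ⟩, hy⟩ := (Scheme.SpecToEquivOfField K X₀).symm.surjective (s ≫ π)
    change Spec.map φ ≫ X₀.fromSpecResidueField y = s ≫ π at hy
    obtain rfl : y = π (s default) := by
      have h := congrArg (fun t => t.base (default : ↥(Spec (CommRingCat.of K)))) hy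
      simp at h
      exact h
    have hφ : φ.hom.comp (toRes f (π (s default))) = algebraMap k K := by
      have h : Spec.map (CommRingCat.ofHom (toRes f (π (s default))) ≫ φ) =
          Spec.map (CommRingCat.ofHom (algebraMap k K)) := by
        rw [Spec.map_comp, SpecMap_toRes, ← Category.assoc, hy, Category.assoc, hπ.w,
          ← Category.assoc, hs, Category.id_comp]
      exact congrArg CommRingCat.Hom.hom (Spec.map_injective h)
    refine ⟨{ φ.hom with commutes' := DFunLike.congr_fun hφ }, Subtype.ext ?_⟩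
    have e : sec { φ.hom with commutes' := DFunLike.congr_fun hφ } = s :=
      hπ.hom_ext (by rw [hsec1]; exact hy) (by rw [hsec2, hs])
    show (sec _) default = s default
    rw [e]

include hπ in
theorem surjective_proj : Function.Surjective π := by
  haveI : Surjective (Spec.map (CommRingCat.ofHom (algebraMap k K))) := by
    constructor
    intro y
    haveI : Subsingleton ↥(Spec (CommRingCat.of k)) := inferInstanceAs (Subsingleton (PrimeSpectrum k))
    exact ⟨default, Subsingleton.elim _ _⟩
  haveI : Surjective π := MorphismProperty.of_isPullback hπ.flip ‹_›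
  exact π.surjective

include hπ in
/-- The automorphisms act transitively on the fibres. -/
theorem exists_algEquiv_of_proj_eq (τ : (K ≃ₐ[k] K) → (X ⟶ X)) (hτ1 : ∀ σ, τ σ ≫ π = π)
    (hτ2 : ∀ σ, τ σ ≫ g = g ≫ Spec.map (CommRingCat.ofHom (σ : K →+* K))) {x y : X}
    (h : π x = π y) : ∃ σ, τ σ x = y := by
  obtain ⟨z, hz1, hz2⟩ := Scheme.Pullback.exists_preimage_pullback (f := π) (g := π) x y h
  let Ω := AlgebraicClosure ((pullback π π).residueField z)
  let j : Spec (CommRingCat.of Ω) ⟶ pullback π π :=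
    Spec.map (CommRingCat.ofHom (algebraMap ((pullback π π).residueField z) Ω)) ≫ (pullback π π).fromSpecResidueField z
  have hj : j default = z := (Scheme.Hom.comp_apply _ _ _).trans (Scheme.fromSpecResidueField_apply _ _)
  obtain ⟨t₁, ht₁⟩ : ∃ t, t = j ≫ pullback.fst π π := ⟨_, rfl⟩
  obtain ⟨t₂, ht₂⟩ : ∃ t, t = j ≫ pullback.snd π π := ⟨_, rfl⟩
  have hp : t₁ ≫ π = t₂ ≫ π := by
    rw [ht₁, ht₂]
    exact (Category.assoc _ _ _).trans ((congrArg (j ≫ ·) pullback.condition).trans (Category.assoc _ _ _).symm)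
  obtain ⟨ι₁, hι₁⟩ : ∃ ι, Spec.map ι = t₁ ≫ g := ⟨_, Spec.map_preimage _⟩
  obtain ⟨ι₂, hι₂⟩ : ∃ ι, Spec.map ι = t₂ ≫ g := ⟨_, Spec.map_preimage _⟩
  have hk : CommRingCat.ofHom (algebraMap k K) ≫ ι₁ = CommRingCat.ofHom (algebraMap k K) ≫ ι₂ := by
    apply Spec.map_injective
    rw [Spec.map_comp, Spec.map_comp, hι₁, hι₂, Category.assoc, Category.assoc, ← hπ.w,
      ← Category.assoc, ← Category.assoc, hp]
  letI algKΩ : Algebra K Ω := ι₁.hom.toAlgebra
  letI algkΩ : Algebra k Ω := (ι₁.hom.comp (algebraMap k K)).toAlgebra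
  haveI : IsScalarTower k K Ω := .of_algebraMap_eq fun _ => rfl
  let φ : K →ₐ[k] Ω :=
    { ι₂.hom with commutes' := fun c => (DFunLike.congr_fun (congrArg CommRingCat.Hom.hom hk) c).symm }
  have hmem : ∀ a, φ a ∈ (IsScalarTower.toAlgHom k K Ω).range := by
    intro a
    have hint : IsIntegral K (φ a) := ((Algebra.IsIntegral.isIntegral (R := k) a).map φ).tower_top
    obtain ⟨c, hc⟩ := minpoly.mem_range_of_degree_eq_one K (φ a)
      (IsAlgClosed.degree_eq_one_of_irreducible K (minpoly.irreducible hint))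
    exact ⟨c, hc⟩
  let e := AlgEquiv.ofInjective (IsScalarTower.toAlgHom k K Ω) (algebraMap K Ω).injective
  let σ₀ : K →ₐ[k] K := e.symm.toAlgHom.comp (φ.codRestrict _ hmem)
  let σ := AlgEquiv.ofBijective σ₀ (Algebra.IsAlgebraic.algHom_bijective σ₀)
  have hσ : ∀ a, ι₁.hom (σ a) = ι₂.hom a := fun a =>
    congrArg Subtype.val (e.apply_symm_apply (φ.codRestrict _ hmem a))
  refine ⟨σ, ?_⟩
  have e' : t₁ ≫ τ σ = t₂ := by
    refine hπ.hom_ext ?_ ?_
    · rw [Category.assoc, hτ1, hp]
    · rw [Category.assoc, hτ2, ← Category.assoc, ← hι₁, ← hι₂, ← Spec.map_comp]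
      exact congrArg Spec.map (CommRingCat.hom_ext (RingHom.ext hσ))
  have h1 : t₁ default = x := by rw [ht₁, Scheme.Hom.comp_apply, hj, hz1]
  have h2 : t₂ default = y := by rw [ht₂, Scheme.Hom.comp_apply, hj, hz2]
  rw [← h1, ← Scheme.Hom.comp_apply, e', h2]

section finite

variable [Finite k] {FX : X₀ ⟶ X₀} {hle : ∀ U : X₀.Opens, U ≤ FX ⁻¹ᵁ U}
  (hFapp : ∀ (U : X₀.Opens) (s : Γ(X₀, U)), (FX.appLE U U (hle U)).hom s = s ^ Nat.card k)
  {F : X ⟶ X} (hF : F ≫ π = π ≫ FX) (hFg : F ≫ g = g)

include hπ hFapp hF hFg in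
theorem closed_descends_iff [LocallyOfFiniteType f] (hFb : ∀ x, FX x = x) (W : Set X)
    (hW : IsClosed W) :
    (∃ Y : Set X₀, IsClosed Y ∧ π ⁻¹' Y = W) ↔ F '' W ⊆ W := by
  haveI : LocallyOfFiniteType g := MorphismProperty.of_isPullback hπ ‹_›
  constructor
  · rintro ⟨Y, hY, rfl⟩ _ ⟨x, hx, rfl⟩
    show π (F x) ∈ Y
    rw [← Scheme.Hom.comp_apply, hF, Scheme.Hom.comp_apply, hFb]
    exact hx
  intro hFW
  refine ⟨π '' W, isClosedMap_proj hπ _ hW, Set.Subset.antisymm ?_ (Set.subset_preimage_image _ _)⟩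
  haveI : JacobsonSpace X := LocallyOfFiniteType.jacobsonSpace g
  have hiter : ∀ j, ∀ x ∈ W, iterHom F j x ∈ W := by
    intro j
    induction j with
    | zero => intro x hx; simpa [iterHom] using hx
    | succ j ih =>
      intro x hx
      rw [iterHom, Scheme.Hom.comp_apply]
      exact hFW ⟨_, ih x hx, rfl⟩
  have hclosed : ∀ y, IsClosed ({y} : Set X) → π y ∈ π '' W → y ∈ W := by
    rintro y hy ⟨x, hx, hxy⟩
    have hy₀ : IsClosed ({π y} : Set X₀) := by
      have := isClosedMap_proj hπ _ hy
      rwa [Set.image_singleton] at this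
    obtain ⟨s, hs, rfl⟩ := exists_section hπ y hy₀
    obtain ⟨t, ht, rfl⟩ := exists_section hπ x (hxy ▸ hy₀)
    obtain ⟨⟨a, φ⟩, hφ⟩ := (Scheme.SpecToEquivOfField K X₀).symm.surjective (s ≫ π)
    obtain ⟨⟨b, ψ⟩, hψ⟩ := (Scheme.SpecToEquivOfField K X₀).symm.surjective (t ≫ π)
    change Spec.map φ ≫ X₀.fromSpecResidueField a = s ≫ π at hφ
    change Spec.map ψ ≫ X₀.fromSpecResidueField b = t ≫ π at hψ
    have ha : a = π (s default) := by
      have h := congrArg (fun v => v.base (default : ↥(Spec (CommRingCat.of K)))) hφ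
      simp at h
      exact h
    have hb : b = a := by
      have h := congrArg (fun v => v.base (default : ↥(Spec (CommRingCat.of K)))) hψ
      simp at h
      exact h.trans (hxy.trans ha.symm)
    subst hb
    haveI : Finite (X₀.residueField b) :=
      (isClosed_iff_finite_residueField f b).mp (ha ▸ hy₀)
    letI := (toRes f b).toAlgebra
    have hover : ∀ (r : Spec (CommRingCat.of K) ⟶ X) (χ : X₀.residueField b ⟶ CommRingCat.of K),
        r ≫ g = 𝟙 _ → Spec.map χ ≫ X₀.fromSpecResidueField b = r ≫ π →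
        χ.hom.comp (toRes f b) = algebraMap k K := by
      intro r χ hr hχ
      have h : Spec.map (CommRingCat.ofHom (toRes f b) ≫ χ) =
          Spec.map (CommRingCat.ofHom (algebraMap k K)) := by
        rw [Spec.map_comp, SpecMap_toRes, ← Category.assoc, hχ, Category.assoc, hπ.w,
          ← Category.assoc, hr, Category.id_comp]
      exact congrArg CommRingCat.Hom.hom (Spec.map_injective h)
    let Φ : X₀.residueField b →ₐ[k] K :=
      { φ.hom with commutes' := DFunLike.congr_fun (hover s φ hs hφ) }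
    let Ψ : X₀.residueField b →ₐ[k] K :=
      { ψ.hom with commutes' := DFunLike.congr_fun (hover t ψ ht hψ) }
    letI := Fintype.ofFinite k
    haveI : Module.Finite k (X₀.residueField b) := Module.Finite.of_finite
    obtain ⟨c, hc⟩ : ∃ c : X₀.residueField b ≃ₐ[k] X₀.residueField b, Ψ.comp c.toAlgHom = Φ := by
      haveI : IsGalois k (X₀.residueField b) := inferInstance
      letI algB : Algebra (X₀.residueField b) K := Ψ.toRingHom.toAlgebra
      haveI : IsScalarTower k (X₀.residueField b) K := .of_algebraMap_eq fun c => (Ψ.commutes c).symm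
      refine ⟨AlgEquiv.ofBijective (Φ.restrictNormal' (X₀.residueField b)).toAlgHom
        (Φ.restrictNormal' (X₀.residueField b)).bijective, AlgHom.ext fun a => ?_⟩
      exact AlgHom.restrictNormal_commutes Φ (X₀.residueField b) a
    obtain ⟨jj, hj⟩ :=
      (FiniteField.bijective_frobeniusAlgEquivOfAlgebraic_pow k (X₀.residueField b)).2 c
    obtain ⟨j, hjeq⟩ : ∃ j : ℕ, (jj : ℕ) = j := ⟨_, rfl⟩
    have hcq : ∀ a, c a = a ^ (Nat.card k ^ j) := by
      intro a
      rw [← hj, ← hjeq]
      simp only [AlgEquiv.coe_pow, FiniteField.coe_frobeniusAlgEquivOfAlgebraic_iterate,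
        Nat.card_eq_fintype_card]
    have hit : t ≫ iterHom F j = s := by
      refine hπ.hom_ext ?_ ?_
      · rw [Category.assoc, iterHom_comp hF, ← Category.assoc,
          comp_iterFrobenius_field FX hle hFapp (L := K) (t ≫ π) j, ← hψ, ← hφ, ← Category.assoc,
          ← Spec.map_comp]
        refine congrArg (fun v => Spec.map v ≫ X₀.fromSpecResidueField b)
          (CommRingCat.hom_ext (RingHom.ext fun a => ?_))
        show fr k K j (ψ.hom a) = φ.hom a
        rw [fr_apply, ← map_pow, ← hcq]
        exact DFunLike.congr_fun hc a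
      · rw [hs, Category.assoc]
        have : ∀ j, iterHom F j ≫ g = g := by
          intro j
          induction j with
          | zero => simp [iterHom]
          | succ j ih => rw [iterHom, Category.assoc, hFg, ih]
        rw [this, ht]
    rw [← hit, Scheme.Hom.comp_apply]
    exact hiter j _ hx
  intro y hy
  by_contra hyW
  have hS : IsClosed (π ⁻¹' (π '' W)) := (isClosedMap_proj hπ _ hW).preimage π.continuous
  obtain ⟨z, ⟨hz1, hz2⟩, hz3⟩ := nonempty_inter_closedPoints
    (Z := π ⁻¹' (π '' W) ∩ Wᶜ) ⟨y, hy, hyW⟩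
    (hS.isLocallyClosed.inter hW.isOpen_compl.isLocallyClosed)
  exact hz2 (hclosed z hz3 hz1)

end finite

end GrothLib.Zeta
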