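import Groth.Agent.Lib.Zeta.IntBound
import Groth.Agent.Lib.Zeta.Points
import Mathlib.GroupTheory.FiniteAbelian.Basic
import Mathlib.FieldTheory.Finite.GaloisField

/-!
Points of schemes of finite type over the integers with values in finite fields.
-/

set_option linter.style.haveILetI false

universe u

open CategoryTheory Limits AlgebraicGeometry

namespace GrothLib.Zeta

variable {X : Scheme.{u}} (f : X ⟶ Spec (CommRingCat.of (ULift.{u} ℤ))) [LocallyOfFiniteType f]

theorem finiteType_int_of_specMap {R : CommRingCat.{u}} (g : Spec R ⟶ Spec (CommRingCat.of (ULift.{u} ℤ)))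
    [LocallyOfFiniteType g] : Algebra.FiniteType ℤ R := by
  obtain ⟨φ, rfl⟩ := Spec.map_surjective g
  have h : φ.hom.FiniteType := (HasRingHomProperty.Spec_iff (P := @LocallyOfFiniteType)).mp ‹_›
  have h' := h.comp (RingHom.FiniteType.of_surjective
    (ULift.ringEquiv.symm : ℤ ≃+* ULift.{u} ℤ).toRingHom (RingEquiv.surjective _))
  rw [← RingHom.finiteType_algebraMap,
    RingHom.ext_int (algebraMap ℤ R) (φ.hom.comp (ULift.ringEquiv.symm : ℤ ≃+* ULift.{u} ℤ).toRingHom)]
  exact h'

theorem finite_of_finiteType_int (K : Type u) [Field K] [Algebra.FiniteType ℤ K] : Finite K := by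
  haveI := isJacobsonRing_int
  haveI : Module.Finite ℤ K := finite_of_finite_type_of_isJacobsonRing ℤ K
  haveI : (⊥ : Ideal K).IsMaximal := Ideal.bot_isMaximal
  obtain ⟨N, hN, hNK⟩ := exists_int_mem_maximal K ⊥
  rw [Ideal.mem_bot] at hNK
  haveI : Module.IsTorsion ℤ K := fun {x} => ⟨⟨N, mem_nonZeroDivisors_iff_ne_zero.mpr hN⟩, by
    show N • x = 0
    rw [Algebra.smul_def, hNK, zero_mul]⟩
  exact Module.finite_of_fg_torsion K ‹_›

include f in
theorem finite_residueField {x : X} (hx : IsClosed ({x} : Set X)) : Finite (X.residueField x) := by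
  have := isClosed_singleton_iff_isClosedImmersion.mp hx
  haveI : Algebra.FiniteType ℤ (X.residueField x) :=
    finiteType_int_of_specMap (X.fromSpecResidueField x ≫ f)
  exact finite_of_finiteType_int _

variable [QuasiCompact f]

include f in
theorem exists_bound_hom (r : ℕ) (hr : topologicalKrullDim X ≤ r) :
    ∃ c p₀ : ℕ, ∀ p : ℕ, p.Prime → ∀ (F : Type u) [Field F] [Finite F] [CharP F p],
      Finite (Spec (CommRingCat.of F) ⟶ X) ∧
      Nat.card (Spec (CommRingCat.of F) ⟶ X) ≤ c * Nat.card F ^ r ∧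
      (p₀ ≤ p → Nat.card (Spec (CommRingCat.of F) ⟶ X) * Nat.card F ≤ c * Nat.card F ^ r) := by
  classical
  have : CompactSpace X := QuasiCompact.compactSpace_of_compactSpace f
  obtain ⟨S, hS⟩ := isCompact_univ.elim_finite_subcover
    (fun U : X.affineOpens => ((U : X.Opens) : Set X)) (fun U => (U : X.Opens).2)
    (fun x _ => by
      obtain ⟨_, ⟨U, hU, rfl⟩, hxU, -⟩ :=
        X.isBasis_affineOpens.exists_subset_of_mem_open (Set.mem_univ x) isOpen_univ
      exact Set.mem_iUnion.mpr ⟨⟨U, hU⟩, hxU⟩)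
  haveI hft : ∀ U : X.affineOpens, Algebra.FiniteType ℤ Γ(X, (U : X.Opens)) := fun U => by
    have : IsOpenImmersion U.2.fromSpec := U.2.isOpenImmersion_fromSpec
    exact finiteType_int_of_specMap (U.2.fromSpec ≫ f)
  have hdim : ∀ U : X.affineOpens, ringKrullDim Γ(X, (U : X.Opens)) ≤ r := fun U => by
    rw [← GrothLib.Dim.topologicalKrullDim_affineOpen U.2]
    exact le_trans (Topology.IsInducing.subtypeVal.topologicalKrullDim_le) hr
  choose cL pL hL using fun U : X.affineOpens => exists_bound_char_zero Γ(X, (U : X.Opens)) r (hdim U)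
  choose cS hcS using fun (U : X.affineOpens) (p : ℕ) (hp : p.Prime) =>
    exists_bound_prime Γ(X, (U : X.Opens)) r (hdim U) p hp
  let p₀ := S.sup pL
  let cs : X.affineOpens → ℕ → ℕ := fun U p => if h : p.Prime then cS U p h else 0
  refine ⟨∑ U ∈ S, (cL U + ∑ p ∈ Finset.range p₀, cs U p), p₀, fun p hp F _ _ _ => ?_⟩
  haveI : ∀ U : X.affineOpens, Finite (Γ(X, (U : X.Opens)) →+* F) := fun U => by
    obtain ⟨n, π, hπ⟩ := Algebra.FiniteType.iff_quotient_mvPolynomial''.mp (hft U)
    exact Finite.of_injective (fun φ (j : Fin n) => φ (π (MvPolynomial.X j))) fun φ φ' h =>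
      RingHom.ext fun a => by
        obtain ⟨q, rfl⟩ := hπ a
        exact RingHom.congr_fun (MvPolynomial.ringHom_ext (f := φ.comp π.toRingHom)
          (g := φ'.comp π.toRingHom) (fun z => by simp) fun j => congrFun h j) q
  let G : (Σ U : S, (Γ(X, ((U.1 : X.affineOpens) : X.Opens)) →+* F)) →
      (Spec (CommRingCat.of F) ⟶ X) :=
    fun s => Spec.map (CommRingCat.ofHom s.2) ≫ s.1.1.2.fromSpec
  have hG : Function.Surjective G := by
    intro g
    obtain ⟨U, hUS, hgU⟩ := Set.mem_iUnion₂.mp (hS (Set.mem_univ (g default)))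
    have hr' : Set.range g ⊆ Set.range U.2.fromSpec := by
      rintro _ ⟨z, rfl⟩
      rw [Subsingleton.elim z default, U.2.range_fromSpec]
      exact hgU
    have : IsOpenImmersion U.2.fromSpec := U.2.isOpenImmersion_fromSpec
    obtain ⟨φ, hφ⟩ : ∃ φ, Spec.map φ = IsOpenImmersion.lift _ g hr' := ⟨_, Spec.map_preimage _⟩
    exact ⟨⟨⟨U, hUS⟩, φ.hom⟩, by
      show Spec.map φ ≫ U.2.fromSpec = g
      rw [hφ, IsOpenImmersion.lift_fac]⟩
  have hle : Nat.card (Spec (CommRingCat.of F) ⟶ X) ≤
      ∑ U ∈ S, Nat.card (Γ(X, (U : X.Opens)) →+* F) := by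
    refine (Nat.card_le_card_of_surjective G hG).trans (le_of_eq ?_)
    rw [Nat.card_sigma, Finset.sum_coe_sort S fun U => Nat.card (Γ(X, (U : X.Opens)) →+* F)]
  have hlarge : p₀ ≤ p → Nat.card (Spec (CommRingCat.of F) ⟶ X) * Nat.card F ≤
      (∑ U ∈ S, (cL U + ∑ p ∈ Finset.range p₀, cs U p)) * Nat.card F ^ r := fun h => by
    refine (Nat.mul_le_mul_right _ hle).trans ?_
    rw [Finset.sum_mul, Finset.sum_mul]
    exact Finset.sum_le_sum fun U hU => (hL U p ((Finset.le_sup hU).trans h) F).trans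
      (Nat.mul_le_mul_right _ (Nat.le_add_right _ _))
  refine ⟨Finite.of_surjective G hG, ?_, hlarge⟩
  rcases le_or_gt p₀ p with h | h
  · exact (Nat.le_mul_of_pos_right _ Nat.card_pos).trans (hlarge h)
  · refine hle.trans ?_
    rw [Finset.sum_mul]
    refine Finset.sum_le_sum fun U hU => (hcS U p hp F).trans (Nat.mul_le_mul_right _ ?_)
    refine le_trans ?_ (Nat.le_add_left _ _)
    refine le_trans (le_of_eq ?_) (Finset.single_le_sum (f := fun p => cs U p) (fun _ _ => Nat.zero_le _)
      (Finset.mem_range.mpr h))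
    simp [cs, hp]

end GrothLib.Zeta
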